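import Cfsg.Agent.Lib.SLExtraFour.Algebra
import Cfsg.Agent.Lib.SympFour.Core
import Cfsg.Agent.Lib.MaxClass.Degree

/-!
Every absolutely irreducible group of symplectic type of order 64 with centre of order 4 in `GL₄` is conjugate
to the standard one.
-/

set_option autoImplicit false
set_option linter.unusedSectionVars false

namespace Cfsg.Agent.Lib.SLExtraFour

open Cfsg Cfsg.Geo Matrix Cfsg.Agent.Lib.SympFour

variable {F : Type*} [Field F]

local notation "M₄" => Matrix (Fin 4) (Fin 4) F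
local notation "G₄" => GL (Fin 4) F

/-- An involutory matrix as a unit. -/
def invU (m : M₄) (h : m * m = 1) : G₄ := ⟨m, m, h, h⟩

theorem invU_val (m : M₄) (h : m * m = 1) : ((invU m h : G₄) : M₄) = m := rfl

variable (F) in
/-- The first diagonal involution. -/
def z1 : M₄ := !![1, 0, 0, 0; 0, 1, 0, 0; 0, 0, -1, 0; 0, 0, 0, -1]

variable (F) in
/-- The first permutation involution. -/
def x1 : M₄ := !![0, 0, 1, 0; 0, 0, 0, 1; 1, 0, 0, 0; 0, 1, 0, 0]

variable (F) in
/-- The second diagonal involution. -/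
def z2 : M₄ := !![1, 0, 0, 0; 0, -1, 0, 0; 0, 0, 1, 0; 0, 0, 0, -1]

variable (F) in
/-- The second permutation involution. -/
def x2 : M₄ := !![0, 1, 0, 0; 1, 0, 0, 0; 0, 0, 0, 1; 0, 0, 1, 0]

theorem z1_sq : z1 F * z1 F = 1 := by
  ext a b; fin_cases a <;> fin_cases b <;> simp [z1, Matrix.vecMul, dotProduct, Fin.sum_univ_four]
theorem x1_sq : x1 F * x1 F = 1 := by
  ext a b; fin_cases a <;> fin_cases b <;> simp [x1, Matrix.vecMul, dotProduct, Fin.sum_univ_four]
theorem z2_sq : z2 F * z2 F = 1 := by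
  ext a b; fin_cases a <;> fin_cases b <;> simp [z2, Matrix.vecMul, dotProduct, Fin.sum_univ_four]
theorem x2_sq : x2 F * x2 F = 1 := by
  ext a b; fin_cases a <;> fin_cases b <;> simp [x2, Matrix.vecMul, dotProduct, Fin.sum_univ_four]

variable {i : F} (hi : i * i = -1) (h2 : (2 : F) ≠ 0)
include hi h2

theorem std_eq : Rstd hi h2 = Subgroup.closure
    ({iS hi, invU (z1 F) z1_sq, invU (x1 F) x1_sq, invU (z2 F) z2_sq, invU (x2 F) x2_sq} : Set G₄) := by
  set Z1 := invU (z1 F) z1_sq with hZ1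
  set X1 := invU (x1 F) x1_sq with hX1
  set Z2 := invU (z2 F) z2_sq with hZ2
  set X2 := invU (x2 F) x2_sq with hX2
  have e3 : beta hi h2 3 0 = iS hi * Z1 := Units.ext (by
    rw [b3, Units.val_mul, iS_val hi, hZ1, invU_val]
    ext a b; fin_cases a <;> fin_cases b <;> simp [z1])
  have e5 : beta hi h2 5 0 = iS hi * X1 := Units.ext (by
    rw [b5, Units.val_mul, iS_val hi, hX1, invU_val]
    ext a b; fin_cases a <;> fin_cases b <;> simp [x1])
  have e2 : beta hi h2 2 0 = Z1 * X1 * Z2 := Units.ext (by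
    rw [b2, Units.val_mul, Units.val_mul, hZ1, hX1, hZ2, invU_val, invU_val, invU_val]
    ext a b; fin_cases a <;> fin_cases b <;>
      simp [z1, x1, z2, Matrix.vecMul, dotProduct, Fin.sum_univ_four])
  have e1 : beta hi h2 1 0 = iS hi * iS hi * (Z1 * X1) * X2 := Units.ext (by
    simp only [Units.val_mul, b1, iS_val hi, hZ1, hX1, hX2, invU_val, Matrix.smul_mul, Matrix.one_mul,
      Matrix.mul_smul, smul_smul, hi]
    ext a b; fin_cases a <;> fin_cases b <;>
      simp [z1, x1, x2, Matrix.vecMul, dotProduct, Fin.sum_univ_four])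
  have e4 : beta hi h2 4 0 = iS hi * iS hi * iS hi * (Z1 * X1) * (Z2 * X2) := Units.ext (by
    simp only [Units.val_mul, b4, iS_val hi, hZ1, hX1, hZ2, hX2, invU_val, Matrix.smul_mul, Matrix.one_mul,
      Matrix.mul_smul, smul_smul]
    rw [show i * (i * i) = -i by rw [hi]; ring]
    ext a b; fin_cases a <;> fin_cases b <;>
      simp [z1, x1, z2, x2, Matrix.vecMul, dotProduct, Fin.sum_univ_four])
  apply le_antisymm
  · rw [Rstd, Subgroup.closure_le]
    set S := Subgroup.closure ({iS hi, Z1, X1, Z2, X2} : Set G₄) with hS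
    have m : ∀ x ∈ ({iS hi, Z1, X1, Z2, X2} : Set G₄), x ∈ S := fun x hx => Subgroup.subset_closure hx
    have mi := m (iS hi) (by simp)
    have mz1 := m Z1 (by simp)
    have mx1 := m X1 (by simp)
    have mz2 := m Z2 (by simp)
    have mx2 := m X2 (by simp)
    rintro x (rfl | ⟨b, rfl⟩)
    · exact mi
    show beta hi h2 b 0 ∈ S
    fin_cases b
    · show beta hi h2 0 0 ∈ S
      rw [show beta hi h2 0 0 = 1 by simp only [pr]; group]; exact one_mem _
    · show beta hi h2 1 0 ∈ S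
      rw [e1]; exact mul_mem (mul_mem (mul_mem mi mi) (mul_mem mz1 mx1)) mx2
    · show beta hi h2 2 0 ∈ S
      rw [e2]; exact mul_mem (mul_mem mz1 mx1) mz2
    · show beta hi h2 3 0 ∈ S
      rw [e3]; exact mul_mem mi mz1
    · show beta hi h2 4 0 ∈ S
      rw [e4]; exact mul_mem (mul_mem (mul_mem (mul_mem mi mi) mi) (mul_mem mz1 mx1)) (mul_mem mz2 mx2)
    · show beta hi h2 5 0 ∈ S
      rw [e5]; exact mul_mem mi mx1
  · have mi := iS_mem hi h2
    have hb := fun b => beta_mem hi h2 b 0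
    have mz1 : Z1 ∈ Rstd hi h2 := by
      rw [show Z1 = (iS hi)⁻¹ * beta hi h2 3 0 by rw [e3]; group]; exact mul_mem (inv_mem mi) (hb 3)
    have mx1 : X1 ∈ Rstd hi h2 := by
      rw [show X1 = (iS hi)⁻¹ * beta hi h2 5 0 by rw [e5]; group]; exact mul_mem (inv_mem mi) (hb 5)
    rw [Subgroup.closure_le]
    rintro x (rfl | rfl | rfl | rfl | rfl)
    · exact mi
    · exact mz1
    · exact mx1
    · show Z2 ∈ Rstd hi h2
      rw [show Z2 = (Z1 * X1)⁻¹ * beta hi h2 2 0 by rw [e2]; group]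
      exact mul_mem (inv_mem (mul_mem mz1 mx1)) (hb 2)
    · show X2 ∈ Rstd hi h2
      rw [show X2 = (iS hi * iS hi * (Z1 * X1))⁻¹ * beta hi h2 1 0 by rw [e1]; group]
      exact mul_mem (inv_mem (mul_mem (mul_mem mi mi) (mul_mem mz1 mx1))) (hb 1)

omit hi h2 in
theorem exists_conj {R : Subgroup G₄} (hS : IsSymplecticTypeGroup 2 R)
    (hirr : ActsAbsolutelyIrreducibly (matrixSet R)) (hcard : Nat.card R = 64)
    (hZ : Nat.card (Subgroup.center R) = 4) (h2 : (2 : F) ≠ 0) :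
    ∃ (i : F) (hi : i * i = -1) (P : G₄), R = (Rstd hi h2).map (MulAut.conj P).toMonoidHom := by
  classical
  obtain ⟨T⟩ := exists_frame hS hirr hcard hZ h2
  refine ⟨T.i, T.hi, ?_⟩
  obtain ⟨A, hA⟩ : ∃ A, A = mat R T.a := ⟨_, rfl⟩
  obtain ⟨B, hB⟩ : ∃ B, B = mat R T.b := ⟨_, rfl⟩
  obtain ⟨C, hC⟩ : ∃ C, C = mat R T.c := ⟨_, rfl⟩
  obtain ⟨D, hD⟩ : ∃ D, D = mat R T.d := ⟨_, rfl⟩
  have haa : A * A = 1 := hA ▸ T.haa
  have hbb : B * B = 1 := hB ▸ T.hbb
  have hcc : C * C = 1 := hC ▸ T.hcc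
  have hdd : D * D = 1 := hD ▸ T.hdd
  have hba : B * A = -(A * B) := by rw [hA, hB]; exact T.hba
  have hdc : D * C = -(C * D) := by rw [hC, hD]; exact T.hdc
  have hca : C * A = A * C := by rw [hA, hC]; exact T.hca
  have hcb : C * B = B * C := by rw [hB, hC]; exact T.hcb
  have hda : D * A = A * D := by rw [hA, hD]; exact T.hda
  have hdb : D * B = B * D := by rw [hB, hD]; exact T.hdb
  -- a common eigenvector
  have hne : (1 + A) * (1 + C) ≠ 0 := by
    intro h
    have h' : (1 - A) * (1 + C) = 0 := by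
      have e : (1 - A) * (1 + C) * B = B * ((1 + A) * (1 + C)) := by
        have e1 : B * A * C = -(A * C * B) := by rw [hba, neg_mul, mul_assoc, ← hcb, ← mul_assoc]
        calc (1 - A) * (1 + C) * B = B + C * B - A * B - A * C * B := by noncomm_ring
          _ = B + B * C + B * A + B * A * C := by rw [e1, hba, hcb]; noncomm_ring
          _ = B * ((1 + A) * (1 + C)) := by noncomm_ring
      rw [h, mul_zero] at e
      have := congrArg (fun m => m * B) e
      simp only [zero_mul, mul_assoc, hbb, mul_one] at this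
      exact this
    have hs : (2 : F) • (1 + C) = 0 := by
      rw [two_smul]
      calc (1 + C) + (1 + C) = (1 + A) * (1 + C) + (1 - A) * (1 + C) := by noncomm_ring
        _ = 0 := by rw [h, h', add_zero]
    have hC1 : C = -1 := eq_neg_of_add_eq_zero_right ((smul_eq_zero.1 hs).resolve_left h2)
    rw [hC1, mul_neg, neg_mul, mul_one, one_mul, neg_neg] at hdc
    exact ne_neg_self h2 (mat_ne_zero (R := R) T.d) (hD ▸ hdc.symm)
  obtain ⟨w, hw⟩ : ∃ w : Fin 4 → F, ((1 + A) * (1 + C)) *ᵥ w ≠ 0 := by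
    by_contra hh
    push Not at hh
    exact hne (Matrix.ext_iff_mulVec.2 fun v => by rw [hh v, Matrix.zero_mulVec])
  obtain ⟨v, hv⟩ : ∃ v, v = ((1 + A) * (1 + C)) *ᵥ w := ⟨_, rfl⟩
  rw [← hv] at hw
  have hAv : A *ᵥ v = v := by
    rw [hv, Matrix.mulVec_mulVec]; congr 1
    rw [← mul_assoc, show A * (1 + A) = 1 + A by rw [mul_add, mul_one, haa, add_comm]]
  have hCv : C *ᵥ v = v := by
    have e : C * ((1 + A) * (1 + C)) = (1 + A) * (1 + C) := by
      rw [← mul_assoc, show C * (1 + A) = (1 + A) * C by rw [mul_add, add_mul, mul_one, one_mul, hca],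
        mul_assoc, show C * (1 + C) = 1 + C by rw [mul_add, mul_one, hcc, add_comm]]
    rw [hv, Matrix.mulVec_mulVec, e]
  let f : Fin 4 → Fin 4 → F := ![v, D *ᵥ v, B *ᵥ v, B *ᵥ (D *ᵥ v)]
  have sw : ∀ {M N : M₄} (u : Fin 4 → F), M * N = N * M → M *ᵥ (N *ᵥ u) = N *ᵥ (M *ᵥ u) := fun {M N} u e => by
    rw [Matrix.mulVec_mulVec, e, ← Matrix.mulVec_mulVec]
  have sw' : ∀ {M N : M₄} (u : Fin 4 → F), M * N = -(N * M) → M *ᵥ (N *ᵥ u) = -(N *ᵥ (M *ᵥ u)) :=
    fun {M N} u e => by rw [Matrix.mulVec_mulVec, e, Matrix.neg_mulVec, ← Matrix.mulVec_mulVec]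
  have A1 : A *ᵥ (D *ᵥ v) = D *ᵥ v := by rw [sw v hda.symm, hAv]
  have A2 : A *ᵥ (B *ᵥ v) = -(B *ᵥ v) := by rw [sw' v (by rw [hba, neg_neg]), hAv]
  have A3 : A *ᵥ (B *ᵥ (D *ᵥ v)) = -(B *ᵥ (D *ᵥ v)) := by rw [sw' _ (by rw [hba, neg_neg]), A1]
  have C1 : C *ᵥ (D *ᵥ v) = -(D *ᵥ v) := by rw [sw' v (by rw [hdc, neg_neg]), hCv]
  have C2 : C *ᵥ (B *ᵥ v) = B *ᵥ v := by rw [sw v hcb, hCv]
  have C3 : C *ᵥ (B *ᵥ (D *ᵥ v)) = -(B *ᵥ (D *ᵥ v)) := by rw [sw _ hcb, C1, Matrix.mulVec_neg]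
  have B2 : B *ᵥ (B *ᵥ v) = v := by rw [Matrix.mulVec_mulVec, hbb, Matrix.one_mulVec]
  have B3 : B *ᵥ (B *ᵥ (D *ᵥ v)) = D *ᵥ v := by rw [Matrix.mulVec_mulVec, hbb, Matrix.one_mulVec]
  have D1 : D *ᵥ (D *ᵥ v) = v := by rw [Matrix.mulVec_mulVec, hdd, Matrix.one_mulVec]
  have D2 : D *ᵥ (B *ᵥ v) = B *ᵥ (D *ᵥ v) := sw v hdb
  have D3 : D *ᵥ (B *ᵥ (D *ᵥ v)) = B *ᵥ v := by rw [sw _ hdb, D1]
  obtain ⟨P0, hP0⟩ : ∃ P0 : M₄, P0 = Matrix.of fun x y => f y x := ⟨_, rfl⟩
  have hP0v : ∀ c : Fin 4 → F, P0 *ᵥ c = c 0 • v + c 1 • (D *ᵥ v) + c 2 • (B *ᵥ v) + c 3 • (B *ᵥ (D *ᵥ v)) := by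
    intro c; funext x
    simp [hP0, Matrix.mulVec, dotProduct, Fin.sum_univ_four, f]
    ring
  have hinj : Function.Injective P0.mulVec := by
    intro c c' h
    rw [← sub_eq_zero]
    obtain ⟨e, he⟩ : ∃ e, e = c - c' := ⟨_, rfl⟩
    rw [← he]
    have h0 : P0 *ᵥ e = 0 := by rw [he, Matrix.mulVec_sub]; exact sub_eq_zero.2 h
    rw [hP0v] at h0
    have hz : ∀ u : Fin 4 → F, u + u = 0 → u = 0 := fun u hu => by
      rw [← two_smul F] at hu; exact (smul_eq_zero.1 hu).resolve_left h2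
    have h1 := congrArg (fun u => A *ᵥ u) h0
    simp only [Matrix.mulVec_add, Matrix.mulVec_smul, hAv, A1, A2, A3, Matrix.mulVec_zero, smul_neg] at h1
    have p : e 0 • v + e 1 • (D *ᵥ v) = 0 := hz _ (by
      calc _ = (e 0 • v + e 1 • (D *ᵥ v) + e 2 • (B *ᵥ v) + e 3 • (B *ᵥ (D *ᵥ v))) +
            (e 0 • v + e 1 • (D *ᵥ v) + -(e 2 • (B *ᵥ v)) + -(e 3 • (B *ᵥ (D *ᵥ v)))) := by abel
        _ = 0 := by rw [h0, h1, add_zero])
    have q : e 2 • (B *ᵥ v) + e 3 • (B *ᵥ (D *ᵥ v)) = 0 := by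
      rw [add_assoc, p, zero_add] at h0; exact h0
    have q' : e 2 • v + e 3 • (D *ᵥ v) = 0 := by
      have := congrArg (fun u => B *ᵥ u) q
      simpa only [Matrix.mulVec_add, Matrix.mulVec_smul, B2, B3, Matrix.mulVec_zero] using this
    have key : ∀ s t : F, s • v + t • (D *ᵥ v) = 0 → s = 0 ∧ t = 0 := by
      intro s t hst
      have h' := congrArg (fun u => C *ᵥ u) hst
      simp only [Matrix.mulVec_add, Matrix.mulVec_smul, hCv, C1, Matrix.mulVec_zero, smul_neg] at h'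
      have hs : s • v = 0 := hz _ (by
        calc _ = (s • v + t • (D *ᵥ v)) + (s • v + -(t • (D *ᵥ v))) := by abel
          _ = 0 := by rw [hst, h', add_zero])
      have hs0 : s = 0 := (smul_eq_zero.1 hs).resolve_right hw
      refine ⟨hs0, ?_⟩
      rw [hs0, zero_smul, zero_add] at hst
      refine (smul_eq_zero.1 hst).resolve_right fun hd => hw ?_
      rw [← D1, hd, Matrix.mulVec_zero]
    obtain ⟨a0, a1⟩ := key _ _ p
    obtain ⟨a2, a3⟩ := key _ _ q'
    funext x; fin_cases x <;> assumption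
  obtain ⟨P, hP⟩ := (Matrix.mulVec_injective_iff_isUnit.1 hinj : IsUnit P0)
  refine ⟨P, ?_⟩
  have hconj : ∀ (g : R) (Z : G₄), mat R g * P0 = P0 * ((Z : G₄) : M₄) → P * Z * P⁻¹ = (g : G₄) := fun g Z e => by
    rw [mul_inv_eq_iff_eq_mul]
    exact Units.ext (by rw [Units.val_mul, Units.val_mul, hP]; exact e.symm)
  have col : ∀ M Z : M₄, (∀ y, M *ᵥ f y = fun x => (P0 * Z) x y) → M * P0 = P0 * Z := fun M Z h => by
    ext x y
    rw [← congrFun (h y) x, hP0]
    rfl
  have ga : P * invU (z1 F) z1_sq * P⁻¹ = (T.a : G₄) := hconj _ _ (col _ _ fun y => by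
    rw [← hA]; funext x; fin_cases y <;>
      simp [f, invU_val, z1, hAv, A1, A2, A3, hP0, Matrix.mul_apply, Fin.sum_univ_four, -Matrix.mulVec_mulVec])
  have gb : P * invU (x1 F) x1_sq * P⁻¹ = (T.b : G₄) := hconj _ _ (col _ _ fun y => by
    rw [← hB]; funext x; fin_cases y <;>
      simp [f, invU_val, x1, B2, B3, hP0, Matrix.mul_apply, Fin.sum_univ_four, -Matrix.mulVec_mulVec])
  have gc : P * invU (z2 F) z2_sq * P⁻¹ = (T.c : G₄) := hconj _ _ (col _ _ fun y => by
    rw [← hC]; funext x; fin_cases y <;>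
      simp [f, invU_val, z2, hCv, C1, C2, C3, hP0, Matrix.mul_apply, Fin.sum_univ_four, -Matrix.mulVec_mulVec])
  have gd : P * invU (x2 F) x2_sq * P⁻¹ = (T.d : G₄) := hconj _ _ (col _ _ fun y => by
    rw [← hD]; funext x; fin_cases y <;>
      simp [f, invU_val, x2, D1, D2, D3, hP0, Matrix.mul_apply, Fin.sum_univ_four, -Matrix.mulVec_mulVec])
  have giS : P * iS T.hi * P⁻¹ = iS T.hi := by rw [iS_comm T.hi, mul_inv_cancel_right]
  obtain ⟨S, hS'⟩ : ∃ S, S = (Rstd T.hi h2).map (MulAut.conj P).toMonoidHom := ⟨_, rfl⟩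
  rw [← hS']
  have hSgen : S = Subgroup.closure ({iS T.hi, (T.a : G₄), (T.b : G₄), (T.c : G₄), (T.d : G₄)} : Set G₄) := by
    rw [hS', std_eq T.hi h2, MonoidHom.map_closure]
    simp only [Set.image_insert_eq, Set.image_singleton, MulEquiv.coe_toMonoidHom, MulAut.conj_apply, giS, ga, gb,
      gc, gd]
  have m : ∀ x ∈ ({iS T.hi, (T.a : G₄), (T.b : G₄), (T.c : G₄), (T.d : G₄)} : Set G₄), x ∈ S := fun x hx =>
    hSgen ▸ Subgroup.subset_closure hx
  have mi := m (iS T.hi) (by simp)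
  apply le_antisymm
  · intro x hx
    have hcorr : ∀ (a b : R) (A B : M₄), mat R a = A → mat R b = B → A * A = 1 → B * B = 1 → B * A = -(A * B) →
        (a : G₄) ∈ S → (b : G₄) ∈ S → ∀ y : R, ∃ w : R, (w : G₄) ∈ S ∧ (∀ M : M₄, M * A = A * M → M * B = B * M →
          mat R w * M = M * mat R w) ∧ mat R (y * w) * A = A * mat R (y * w) ∧ mat R (y * w) * B = B * mat R (y * w) := by
      intro a b A B ea eb hAA hBB hBA maS mbS y
      have hAB : A * B = -(B * A) := by rw [hBA, neg_neg]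
      rcases T.comm y a with h1 | h1 <;> rcases T.comm y b with h3 | h3 <;> rw [ea] at h1 <;> rw [eb] at h3
      · exact ⟨1, one_mem S, fun M _ _ => by rw [map_one, one_mul, mul_one], by rw [mul_one, h1],
          by rw [mul_one, h3]⟩
      · refine ⟨a, maS, fun M hM _ => by rw [ea, hM], ?_, ?_⟩ <;> rw [map_mul, ea]
        · rw [← mul_assoc, ← h1]
        · rw [mul_assoc, hAB, mul_neg, ← mul_assoc, h3, neg_mul, neg_neg, mul_assoc]
      · refine ⟨b, mbS, fun M _ hM => by rw [eb, hM], ?_, ?_⟩ <;> rw [map_mul, eb]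
        · rw [mul_assoc, hBA, mul_neg, ← mul_assoc, h1, neg_mul, neg_neg, mul_assoc]
        · rw [mul_assoc, ← mul_assoc B, ← h3, mul_assoc]
      · refine ⟨a * b, mul_mem maS mbS, fun M hMA hMB => ?_, ?_, ?_⟩
        · rw [map_mul, ea, eb, mul_assoc, ← hMB, ← mul_assoc, ← hMA, mul_assoc]
        · rw [map_mul, map_mul, ea, eb, mul_assoc, mul_assoc, hBA, mul_neg, mul_neg, ← mul_assoc (mat R y), h1,
            neg_mul, neg_neg, mul_assoc]
        · rw [map_mul, map_mul, ea, eb]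
          calc mat R y * (A * B) * B = mat R y * A := by rw [mul_assoc, mul_assoc, hBB, mul_one]
            _ = B * (mat R y * (A * B)) := by
              rw [hAB, mul_neg, mul_neg, ← mul_assoc (mat R y), h3, neg_mul, mul_neg, neg_neg, mul_assoc B,
                ← mul_assoc B B, hBB, one_mul]
    obtain ⟨w, hwS, hwc, hya, hyb⟩ := hcorr T.a T.b A B hA.symm hB.symm haa hbb hba (m _ (by simp)) (m _ (by simp))
      ⟨x, hx⟩
    obtain ⟨w', hwS', hwc', hyc, hyd⟩ := hcorr T.c T.d C D hC.symm hD.symm hcc hdd hdc (m _ (by simp))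
      (m _ (by simp)) (⟨x, hx⟩ * w)
    obtain ⟨y, hy⟩ : ∃ y : R, y = ⟨x, hx⟩ * w * w' := ⟨_, rfl⟩
    rw [← hy] at hyc hyd
    have hyA : mat R y * A = A * mat R y := by
      rw [hy, map_mul, mul_assoc, hwc' A hca.symm hda.symm, ← mul_assoc, hya, mul_assoc]
    have hyB : mat R y * B = B * mat R y := by
      rw [hy, map_mul, mul_assoc, hwc' B hcb.symm hdb.symm, ← mul_assoc, hyb, mul_assoc]
    obtain ⟨Q, hQ⟩ : ∃ Q : G₄, Q = P⁻¹ * y * P := ⟨_, rfl⟩
    have hcent : ∀ (g : R) (Z : G₄) (G : M₄), P * Z * P⁻¹ = (g : G₄) → mat R g = G →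
        mat R y * G = G * mat R y → Q * Z = Z * Q := fun g Z G e eG h => by
      have hyg : (y : G₄) * g = g * y := Units.ext (by rw [← eG] at h; exact h)
      rw [← e] at hyg
      calc Q * Z = P⁻¹ * ((y : G₄) * (P * Z * P⁻¹)) * P := by rw [hQ]; group
        _ = Z * Q := by rw [hyg, hQ]; group
    have hle : Rstd T.hi h2 ≤ Subgroup.centralizer ({Q} : Set G₄) := by
      rw [std_eq T.hi h2, Subgroup.closure_le]
      rintro z (rfl | rfl | rfl | rfl | rfl) <;> rw [SetLike.mem_coe, Subgroup.mem_centralizer_singleton_iff]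
      · exact (iS_comm T.hi Q).symm
      · exact (hcent _ _ A ga hA.symm hyA).symm
      · exact (hcent _ _ B gb hB.symm hyB).symm
      · exact (hcent _ _ C gc hC.symm hyc).symm
      · exact (hcent _ _ D gd hD.symm hyd).symm
    have hsc := scalar_of_commute T.hi h2 (g := (Q : M₄)) fun b => by
      have := Subgroup.mem_centralizer_singleton_iff.1 (hle (beta_mem T.hi h2 b 0))
      exact congrArg Units.val this.symm
    obtain ⟨r, hr⟩ : ∃ r, (Q : M₄) 0 0 = r := ⟨_, rfl⟩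
    rw [hr] at hsc
    have hmy : mat R y = r • 1 := by
      have e : (y : G₄) = P * Q * P⁻¹ := by rw [hQ]; group
      show ((y : G₄) : M₄) = _
      rw [e, Units.val_mul, Units.val_mul, hsc, Matrix.mul_smul, Matrix.mul_one, Matrix.smul_mul, Units.mul_inv]
    obtain ⟨k, hk4, hk⟩ := T.central y fun z => mat_injective R (by
      rw [map_mul, map_mul, hmy, Matrix.smul_mul, one_mul, Matrix.mul_smul, mul_one])
    have hmem : (y : G₄) ∈ S := by
      have hroot : ∃ n : ℕ, k = T.i ^ n := by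
        have hk' : (k - 1) * (k + 1) * ((k - T.i) * (k + T.i)) = 0 := by
          linear_combination hk4 - (k * k - 1) * T.hi
        rcases mul_eq_zero.1 hk' with h | h <;> rcases mul_eq_zero.1 h with h | h
        · exact ⟨0, by rw [pow_zero]; exact sub_eq_zero.1 h⟩
        · exact ⟨2, by rw [pow_two, T.hi]; exact eq_neg_of_add_eq_zero_left h⟩
        · exact ⟨1, by rw [pow_one]; exact sub_eq_zero.1 h⟩
        · exact ⟨3, by rw [pow_succ, pow_two, T.hi, neg_one_mul]; exact eq_neg_of_add_eq_zero_left h⟩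
      obtain ⟨n, hn⟩ := hroot
      rw [show (y : G₄) = iS T.hi ^ n from Units.ext (by
        show mat R y = _
        rw [hk, hn, Units.val_pow_eq_pow_val, iS_val T.hi, _root_.smul_pow, one_pow])]
      exact pow_mem mi n
    rw [show x = (y : G₄) * (w' : G₄)⁻¹ * (w : G₄)⁻¹ by rw [hy]; simp]
    exact mul_mem (mul_mem hmem (inv_mem hwS')) (inv_mem hwS)
  · rw [hSgen, Subgroup.closure_le]
    rintro z (rfl | rfl | rfl | rfl | rfl)
    · obtain ⟨z, hz⟩ := T.scal T.i (by linear_combination (T.i * T.i - 1) * T.hi)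
      rw [SetLike.mem_coe, show iS T.hi = (z : G₄) from Units.ext hz.symm]
      exact z.2
    all_goals exact (Subtype.mem _)

omit hi h2 in
/-- The order of the group. -/
theorem card_of_data [Fintype F] {R : Subgroup G₄} (hS : IsSymplecticTypeGroup 2 R)
    (hirr : ActsAbsolutelyIrreducibly (matrixSet R)) (hZ : Nat.card (Subgroup.center R) = 4) (h2 : (2 : F) ≠ 0)
    {m : ℕ} (hm : Nat.card R = 2 ^ (2 + 2 * m)) : Nat.card R = 64 := by
  obtain ⟨p, hp⟩ := CharP.exists F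
  have hp2 : 2 ≠ p := fun e => h2 (by subst e; exact CharP.cast_eq_zero F 2)
  have h := MaxClass.symplecticType_degree (m := m) hp2 hS hirr hZ
    (by rw [hS.exponent_eq]; norm_num) (by rw [hm, pow_add]; norm_num)
  rw [Fintype.card_fin] at h
  have : m = 2 := Nat.pow_right_injective le_rfl (show 2 ^ m = 2 ^ 2 by rw [← h])
  rw [hm, this]; norm_num

/-- Maximality is invariant under conjugation. -/
theorem isMaximalIn_conj {G : Subgroup G₄} (P : G₄) (hG : G.map (MulAut.conj P).toMonoidHom = G)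
    (h : IsMaximalIn G (subgroupNormalizer (Rstd hi h2) ⊓ G)) :
    IsMaximalIn G (subgroupNormalizer ((Rstd hi h2).map (MulAut.conj P).toMonoidHom) ⊓ G) := by
  set e := (MulAut.conj P).toMonoidHom with he
  have hinj : Function.Injective e := (MulAut.conj P).injective
  have hH : (subgroupNormalizer (Rstd hi h2) ⊓ G).map e = subgroupNormalizer ((Rstd hi h2).map e) ⊓ G := by
    rw [Subgroup.map_inf _ _ e hinj, hG]
    congr 1
    exact Subgroup.map_normalizer_eq_of_bijective _ (MulAut.conj P).bijective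
  rw [← hH]
  constructor
  · exact lt_of_lt_of_eq ((Subgroup.map_lt_map_iff_of_injective hinj).2 h.1) hG
  · intro M hM1 hM2
    have h1 : subgroupNormalizer (Rstd hi h2) ⊓ G ≤ M.comap e := Subgroup.map_le_iff_le_comap.1 hM1
    have h2' : M.comap e ≤ G := fun x hx => by
      have := hM2 hx
      rw [← hG] at this
      exact (Subgroup.mem_map_iff_mem hinj).1 this
    have hM : (M.comap e).map e = M := Subgroup.map_comap_eq_self_of_surjective (MulAut.conj P).surjective M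
    rcases h.2 _ h1 h2' with hh | hh <;> rw [hh] at hM
    · exact Or.inl hM.symm
    · exact Or.inr (hM.symm.trans hG)

end Cfsg.Agent.Lib.SLExtraFour
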