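import Cfsg.Agent.Lib.SLExtraFour.Algebra
import Cfsg.Agent.Lib.OrthFrame.Six

/-!
The normaliser of the group of order 64 in a group of `4 × 4` matrices of determinant one that induces the
orthogonal group in six variables over a prime field is maximal.
-/

set_option autoImplicit false
set_option linter.unusedSectionVars false

namespace Cfsg.Agent.Lib.SLExtraFour

open Cfsg Cfsg.Geo Matrix Cfsg.Agent.Lib.Classical.LowRank Cfsg.Agent.Lib.Orth Cfsg.Agent.Lib.OrthFrame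

variable {F : Type*} [Field F] {k : Type*} [Field k] {φ : k →+* F} {i : F}

local notation "M₄" => Matrix (Fin 4) (Fin 4) F
local notation "G₄" => GL (Fin 4) F

theorem phi_dot (v w : Fin 6 → k) : φ (v ⬝ᵥ w) = (φ ∘ v) ⬝ᵥ (φ ∘ w) := by
  simp [dotProduct, map_sum, map_mul]

theorem phi_aniso {v : Fin 6 → k} (h : v ⬝ᵥ v ≠ 0) : (φ ∘ v) ⬝ᵥ (φ ∘ v) ≠ 0 := by
  rw [← phi_dot]; exact fun e => h ((map_eq_zero φ).1 e)

theorem phi_ax (a : Fin 6) : φ ∘ (ax a : Fin 6 → k) = Pi.single a 1 := by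
  funext x
  by_cases h : x = a
  · subst h; simp [ax]
  · simp [ax, h]

theorem phi_rfc (v x : Fin 6 → k) : φ ∘ rfc v x = rfc (φ ∘ v) (φ ∘ x) := by
  funext j
  simp [rfc, map_sub, map_mul, map_div₀, map_ofNat, phi_dot]

/-- The hypotheses on the group. -/
structure Good (φ : k →+* F) {i : F} (hi : i * i = -1) (h2 : (2 : F) ≠ 0) (G : Subgroup G₄) : Prop where
  det : ∀ g ∈ G, (g : M₄).det = 1
  stab : ∀ g ∈ G, ∀ v : Fin 6 → k, ∃ w : Fin 6 → k, (g : M₄) * Xv i (φ ∘ v) * (g : M₄)ᵀ = Xv i (φ ∘ w)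
  pair : ∀ (v w : Fin 6 → k) (hv : (φ ∘ v) ⬝ᵥ (φ ∘ v) ≠ 0) (hw : (φ ∘ w) ⬝ᵥ (φ ∘ w) ≠ 0),
    v ⬝ᵥ v = w ⬝ᵥ w → pr hi h2 (φ ∘ v) (φ ∘ w) hv hw ∈ G
  gen : ∀ S : Set G₄, S ⊆ G → (∀ g ∈ G, ∀ s ∈ S, g * s * g⁻¹ ∈ S) → (∃ s ∈ S, ∃ t ∈ G, s * t ≠ t * s) →
    G ≤ Subgroup.closure S

variable {hi : i * i = -1} {h2 : (2 : F) ≠ 0} {G : Subgroup (GL (Fin 4) F)}

namespace Good

variable (hG : Good φ hi h2 G)
include hG

theorem two_k : (2 : k) ≠ 0 := fun e => h2 (by rw [← map_ofNat φ, e, map_zero])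

/-- The action on six coordinates. -/
noncomputable def act (g : G) (v : Fin 6 → k) : Fin 6 → k := Classical.choose (hG.stab g g.2 v)

theorem act_spec (g : G) (v : Fin 6 → k) :
    ((g : G₄) : M₄) * Xv i (φ ∘ v) * ((g : G₄) : M₄)ᵀ = Xv i (φ ∘ hG.act g v) :=
  Classical.choose_spec (hG.stab g g.2 v)

theorem act_eq {g : G} {v w : Fin 6 → k} (h : ((g : G₄) : M₄) * Xv i (φ ∘ v) * ((g : G₄) : M₄)ᵀ = Xv i (φ ∘ w)) :
    hG.act g v = w := by
  rw [hG.act_spec] at h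
  have := Xv_inj hi h2 h
  funext x
  exact φ.injective (congrFun this x)

theorem act_add (g : G) (v w : Fin 6 → k) : hG.act g (v + w) = hG.act g v + hG.act g w := by
  apply hG.act_eq
  rw [show φ ∘ (v + w) = φ ∘ v + φ ∘ w by funext x; simp, Xv_add, Matrix.mul_add, Matrix.add_mul, hG.act_spec,
    hG.act_spec, show φ ∘ (hG.act g v + hG.act g w) = φ ∘ hG.act g v + φ ∘ hG.act g w by funext x; simp, Xv_add]

theorem act_smul (g : G) (c : k) (v : Fin 6 → k) : hG.act g (c • v) = c • hG.act g v := by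
  apply hG.act_eq
  rw [show φ ∘ (c • v) = φ c • (φ ∘ v) by funext x; simp, Xv_smul, Matrix.mul_smul, Matrix.smul_mul, hG.act_spec,
    show φ ∘ (c • hG.act g v) = φ c • (φ ∘ hG.act g v) by funext x; simp, Xv_smul]

theorem act_one (v : Fin 6 → k) : hG.act 1 v = v := hG.act_eq (by simp)

theorem act_mul (g h : G) (v : Fin 6 → k) : hG.act (g * h) v = hG.act g (hG.act h v) := by
  apply hG.act_eq
  rw [← hG.act_spec, ← hG.act_spec]
  simp [Matrix.transpose_mul, Matrix.mul_assoc]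

theorem act_dot (g : G) (v : Fin 6 → k) : hG.act g v ⬝ᵥ hG.act g v = v ⬝ᵥ v := by
  apply φ.injective
  rw [phi_dot, phi_dot, ← quad_plc hi, ← quad_plc hi (φ ∘ v)]
  have h := hG.act_spec g v
  have e : altProj F (((g : G₄) : M₄) * (altEmb F (plc i (φ ∘ v)) * ((g : G₄) : M₄)ᵀ)) = plc i (φ ∘ hG.act g v) := by
    rw [← Matrix.mul_assoc]
    show altProj F (((g : G₄) : M₄) * Xv i (φ ∘ v) * ((g : G₄) : M₄)ᵀ) = _
    rw [h]; exact altProj_altEmb _
  rw [← e, pfaffian_congr, hG.det _ g.2, one_mul]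

/-- The action as a linear equivalence. -/
noncomputable def actEquiv (g : G) : (Fin 6 → k) ≃ₗ[k] (Fin 6 → k) where
  toFun := hG.act g
  map_add' := hG.act_add g
  map_smul' := hG.act_smul g
  invFun := hG.act g⁻¹
  left_inv v := by rw [← hG.act_mul, inv_mul_cancel, hG.act_one]
  right_inv v := by rw [← hG.act_mul, mul_inv_cancel, hG.act_one]

theorem actEquiv_dot (g : G) (v : Fin 6 → k) : dotQ (Fin 6) k (hG.actEquiv g v) = dotQ (Fin 6) k v :=
  hG.act_dot g v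

/-- The map to the orthogonal group. -/
noncomputable def rho : G →* O (Fin 6) k where
  toFun g := ofEquiv (dotQ (Fin 6) k) (hG.actEquiv g) (hG.actEquiv_dot g)
  map_one' := isometry_ext fun v => by rw [app_ofEquiv, app_one]; exact hG.act_one v
  map_mul' g h := isometry_ext fun v => by
    rw [app_mul, app_ofEquiv, app_ofEquiv, app_ofEquiv]; exact hG.act_mul g h v

theorem app_rho (g : G) (v : Fin 6 → k) : app (hG.rho g) v = hG.act g v := by
  show app (ofEquiv (dotQ (Fin 6) k) (hG.actEquiv g) (hG.actEquiv_dot g)) v = _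
  rw [app_ofEquiv]; rfl

theorem rho_pair {v w : Fin 6 → k} (hv : v ⬝ᵥ v ≠ 0) (hw : w ⬝ᵥ w ≠ 0) (h : v ⬝ᵥ v = w ⬝ᵥ w) (x : Fin 6 → k) :
    app (hG.rho ⟨pr hi h2 (φ ∘ v) (φ ∘ w) (phi_aniso hv) (phi_aniso hw), hG.pair v w _ _ h⟩) x =
      rfc v (rfc w x) := by
  rw [hG.app_rho]
  apply hG.act_eq
  show ((pr hi h2 (φ ∘ v) (φ ∘ w) _ _ : G₄) : M₄) * _ * _ = _
  rw [pr_sandwich hi h2 _ _ (by rw [← phi_dot, ← phi_dot, h]), phi_rfc, phi_rfc]

theorem beta_memG (a b : Fin 6) : beta hi h2 a b ∈ G := by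
  have := hG.pair (ax a) (ax b) (phi_aniso (by simp [ax])) (phi_aniso (by simp [ax])) (by simp [ax])
  simpa only [phi_ax] using this

theorem neg_one_memG : (-1 : G₄) ∈ G := by
  have h := hG.pair (ax 0) (-ax 0) (phi_aniso (by simp [ax])) (phi_aniso (by simp [ax])) (by simp [ax])
  have e : φ ∘ (-ax 0 : Fin 6 → k) = -Pi.single 0 1 := by
    rw [← phi_ax (φ := φ)]; funext x; simp
  simp only [phi_ax, e] at h
  have e' : pr hi h2 (Pi.single 0 1) (-Pi.single 0 1) (ax_aniso 0) (by simp) = (-1 : G₄) := by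
    apply Units.ext
    rw [pr_val, Xv_neg, Matrix.mul_neg, Xv_mul_self hi h2]
    simp
  exact e' ▸ h

/-- A normal closure. -/
theorem le_of_pairs {M : Subgroup G₄}
    (h : ∀ (v w : Fin 6 → k) (hv : (φ ∘ v) ⬝ᵥ (φ ∘ v) ≠ 0) (hw : (φ ∘ w) ⬝ᵥ (φ ∘ w) ≠ 0),
      v ⬝ᵥ v = 1 → w ⬝ᵥ w = 1 → pr hi h2 (φ ∘ v) (φ ∘ w) hv hw ∈ M) : G ≤ M := by
  let S : Set G₄ := {x | ∃ (v w : Fin 6 → k) (hv : (φ ∘ v) ⬝ᵥ (φ ∘ v) ≠ 0) (hw : (φ ∘ w) ⬝ᵥ (φ ∘ w) ≠ 0),
    v ⬝ᵥ v = 1 ∧ w ⬝ᵥ w = 1 ∧ x = pr hi h2 (φ ∘ v) (φ ∘ w) hv hw}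
  have hSG : S ⊆ (G : Set G₄) := by
    rintro _ ⟨v, w, hv, hw, e1, e2, rfl⟩
    exact hG.pair v w hv hw (e1.trans e2.symm)
  refine (hG.gen S hSG ?_ ?_).trans ((Subgroup.closure_le M).2 ?_)
  · rintro g hg _ ⟨v, w, hv, hw, e1, e2, rfl⟩
    refine ⟨hG.act ⟨g, hg⟩ v, hG.act ⟨g, hg⟩ w, phi_aniso (by rw [hG.act_dot, e1]; exact one_ne_zero),
      phi_aniso (by rw [hG.act_dot, e2]; exact one_ne_zero), by rw [hG.act_dot, e1], by rw [hG.act_dot, e2], ?_⟩
    exact conj_pr hi h2 hv hw _ _ (hG.act_spec ⟨g, hg⟩ v) (hG.act_spec ⟨g, hg⟩ w)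
  · refine ⟨beta hi h2 3 0, ⟨ax 3, ax 0, phi_aniso (by simp [ax]), phi_aniso (by simp [ax]), by simp [ax],
      by simp [ax], by simp only [phi_ax]⟩, beta hi h2 5 0, hG.beta_memG 5 0, fun e => ?_⟩
    have e' := congrArg (fun m : G₄ => (m : M₄) 0 2) e
    simp only [Units.val_mul, b3, b5] at e'
    simp [Matrix.mul_apply, Fin.sum_univ_four, hi] at e'
    exact h2 (by linear_combination -e')
  · rintro _ ⟨v, w, hv, hw, e1, e2, rfl⟩
    exact h v w hv hw e1 e2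

theorem mem_normalizer [Finite F] {g : G} (h : Mono (hG.rho g)) :
    (g : G₄) ∈ subgroupNormalizer (Rstd hi h2) := by
  have hgen : ∀ a b : Fin 6, (g : G₄) * beta hi h2 a b * (g : G₄)⁻¹ ∈ Rstd hi h2 := by
    intro a b
    have key : ∀ a : Fin 6, ∃ (c : Fin 6) (e : G₄), (e = 1 ∨ e = -1) ∧
        (g : G₄) * Xu hi h2 (Pi.single a 1) (ax_aniso a) * trG (g : G₄) =
          e * Xu hi h2 (Pi.single c 1) (ax_aniso c) := by
      intro a
      obtain ⟨c, hc⟩ := h a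
      rw [hG.app_rho] at hc
      have hs := hG.act_spec g (ax a)
      rcases hc with hc | hc
      · refine ⟨c, 1, Or.inl rfl, ?_⟩
        rw [one_mul]
        refine conj_Xu hi h2 _ _ ?_
        rw [hc, phi_ax, phi_ax] at hs
        exact hs
      · refine ⟨c, -1, Or.inr rfl, Units.ext ?_⟩
        rw [hc, phi_ax, show φ ∘ (-ax c : Fin 6 → k) = -Pi.single c 1 by
          rw [← phi_ax (φ := φ)]; funext x; simp, Xv_neg] at hs
        rw [Units.val_mul, Units.val_mul, trG_val, Xu_val, hs]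
        simp [Xu_val]
    obtain ⟨c, e, he, hc⟩ := key a
    obtain ⟨c', e', he', hc'⟩ := key b
    have hx : (g : G₄) * beta hi h2 a b * (g : G₄)⁻¹ = e * beta hi h2 c c' * e'⁻¹ := by
      calc (g : G₄) * beta hi h2 a b * (g : G₄)⁻¹
          = ((g : G₄) * Xu hi h2 (Pi.single a 1) (ax_aniso a) * trG (g : G₄)) *
            ((g : G₄) * Xu hi h2 (Pi.single b 1) (ax_aniso b) * trG (g : G₄))⁻¹ := by simp only [pr]; group
        _ = _ := by rw [hc, hc']; simp only [pr]; group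
    rw [hx]
    have hm : ∀ e : G₄, e = 1 ∨ e = -1 → e ∈ Rstd hi h2 := by
      rintro e (rfl | rfl)
      · exact one_mem _
      · exact neg_one_mem hi h2
    exact mul_mem (mul_mem (hm e he) (beta_mem hi h2 c c')) (inv_mem (hm e' he'))
  have hle : Rstd hi h2 ≤ (Rstd hi h2).comap (MulAut.conj (g : G₄)).toMonoidHom := by
    rw [Rstd, Subgroup.closure_le]
    rintro x (rfl | ⟨b, rfl⟩)
    · show (g : G₄) * iS hi * (g : G₄)⁻¹ ∈ Rstd hi h2
      rw [iS_comm hi, mul_inv_cancel_right]; exact iS_mem hi h2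
    · exact hgen b 0
  haveI : Finite (Rstd hi h2) := inferInstance
  let f : Rstd hi h2 → Rstd hi h2 := fun a => ⟨(g : G₄) * a * (g : G₄)⁻¹, hle a.2⟩
  have hf : Function.Injective f := fun a b hab => by
    have := congrArg (fun x : Rstd hi h2 => (x : G₄)) hab
    exact Subtype.ext (by simpa [f] using this)
  rw [subgroupNormalizer, Subgroup.mem_normalizer_iff]
  intro a
  refine ⟨fun ha => (f ⟨a, ha⟩).2, fun ha => ?_⟩
  obtain ⟨b, hb⟩ := (Finite.injective_iff_surjective.mp hf) ⟨_, ha⟩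
  have := congrArg (fun x : Rstd hi h2 => (x : G₄)) hb
  simp [f] at this
  rw [← this]; exact b.2

theorem eq_or_neg_of_rho {g : G} (h : hG.rho g = 1) : (g : G₄) = 1 ∨ (g : G₄) = -1 := by
  have hfix : ∀ a : Fin 6, ((g : G₄) : M₄) * Xv i (Pi.single a 1) * ((g : G₄) : M₄)ᵀ = Xv i (Pi.single a 1) := by
    intro a
    have := hG.act_spec g (ax a)
    rwa [← hG.app_rho, h, app_one, phi_ax] at this
  have hcomm : ∀ b, ((g : G₄) : M₄) * ((beta hi h2 b 0 : G₄) : M₄) = ((beta hi h2 b 0 : G₄) : M₄) * ((g : G₄) : M₄) := by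
    intro b
    rw [← Units.val_mul, ← Units.val_mul, mul_inv_eq_iff_eq_mul.1
      (conj_pr hi h2 (ax_aniso b) (ax_aniso 0) (ax_aniso b) (ax_aniso 0) (hfix b) (hfix 0))]
  have hc := scalar_of_commute hi h2 hcomm
  obtain ⟨c, hc'⟩ : ∃ c, ((g : G₄) : M₄) 0 0 = c := ⟨_, rfl⟩
  rw [hc'] at hc
  have h0 := hfix 0
  rw [hc, Matrix.transpose_smul, Matrix.transpose_one, Matrix.smul_mul, Matrix.one_mul, Matrix.mul_smul,
    Matrix.mul_one, smul_smul] at h0
  have h1 := congrFun (congrFun h0 0) 1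
  simp [Xv, plc, altEmb] at h1
  rcases mul_self_eq_one_iff.1 h1 with rfl | rfl
  · left; exact Units.ext (by rw [hc]; simp)
  · right; exact Units.ext (by rw [hc]; simp)

omit hG in
theorem rfc_swap (h : (2 : k) ≠ 0) {a b : Fin 6} (hab : a ≠ b) (x : Fin 6 → k) :
    rfc (ax a - ax b) x = x ∘ Equiv.swap a b := by
  have hd : (ax a - ax b : Fin 6 → k) ⬝ᵥ x = x a - x b := by rw [sub_dotProduct, ax_dot, ax_dot]
  have hn : (ax a - ax b : Fin 6 → k) ⬝ᵥ (ax a - ax b) = 2 := by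
    rw [sub_dotProduct, ax_dot, ax_dot]; simp [ax, hab, hab.symm]; norm_num
  funext j
  simp only [rfc, hd, hn, Pi.sub_apply, Pi.smul_apply, smul_eq_mul, Function.comp_apply]
  rw [mul_div_cancel_left₀ _ h]
  rcases eq_or_ne j a with rfl | ha
  · simp [ax, hab]
  rcases eq_or_ne j b with rfl | hb
  · simp [ax, ha]
  · simp [ax, ha, hb, Equiv.swap_apply_of_ne_of_ne ha hb]

theorem exists_swaps {a b c d : Fin 6} (hab : a ≠ b) (hcd : c ≠ d) :
    ∃ g : G, hG.rho g = pG (Equiv.swap a b * Equiv.swap c d) := by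
  have hk := hG.two_k
  have hn : ∀ a b : Fin 6, a ≠ b → (ax a - ax b : Fin 6 → k) ⬝ᵥ (ax a - ax b) = 2 := fun a b h => by
    rw [sub_dotProduct, ax_dot, ax_dot]; simp [ax, h, h.symm]; norm_num
  refine ⟨⟨_, hG.pair (ax a - ax b) (ax c - ax d) (phi_aniso (by rw [hn a b hab]; exact hk))
    (phi_aniso (by rw [hn c d hcd]; exact hk)) ((hn a b hab).trans (hn c d hcd).symm)⟩, isometry_ext fun x => ?_⟩
  rw [hG.rho_pair (by rw [hn a b hab]; exact hk) (by rw [hn c d hcd]; exact hk)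
    ((hn a b hab).trans (hn c d hcd).symm), rfc_swap hk hab, rfc_swap hk hcd, app_pG]
  funext j
  simp [Equiv.swap_inv]

theorem rho_beta {a b : Fin 6} (hab : a ≠ b) : hG.rho ⟨beta hi h2 a b, hG.beta_memG a b⟩ = dd {a, b} := by
  have e : (⟨beta hi h2 a b, hG.beta_memG a b⟩ : G) =
      ⟨pr hi h2 (φ ∘ ax a) (φ ∘ ax b) (phi_aniso (by simp [ax])) (phi_aniso (by simp [ax])),
        hG.pair _ _ _ _ (by simp [ax])⟩ := Subtype.ext (by simp only [phi_ax])
  rw [e, dd_pair hab]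
  refine isometry_ext fun x => ?_
  rw [hG.rho_pair (by simp [ax]) (by simp [ax]) (by simp [ax]), app_mul, app_rr, app_rr]
  simp only [rfc, rf, ax_unit, div_one]

/-- Maximality of the normaliser. -/
theorem isMaximalIn [Finite F] [Fintype k] (hp : (Fintype.card k).Prime) :
    IsMaximalIn G (subgroupNormalizer (Rstd hi h2) ⊓ G) := by
  classical
  have hk := hG.two_k
  refine ⟨lt_of_le_of_ne inf_le_right fun hEq => ?_, fun M hM1 hM2 => ?_⟩
  · obtain ⟨hV, hW, hnot⟩ := exists_not_mem hi h2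
    have eV : (φ ∘ (![1, 1, 1, 1, 0, 0] : Fin 6 → k)) = ![1, 1, 1, 1, 0, 0] := by
      funext x; fin_cases x <;> simp
    have eW : (φ ∘ (![0, 0, 0, 0, 0, 2] : Fin 6 → k)) = ![0, 0, 0, 0, 0, 2] := by
      funext x; fin_cases x <;> simp [map_ofNat]
    have hg := hG.pair ![1, 1, 1, 1, 0, 0] ![0, 0, 0, 0, 0, 2] (by rw [eV]; exact hV) (by rw [eW]; exact hW)
      (by simp [dotProduct, Fin.sum_univ_six]; norm_num)
    simp only [eV, eW] at hg
    exact hnot ((Subgroup.mem_normalizer_iff.1 (hEq.symm ▸ hg :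
      pr hi h2 _ _ hV hW ∈ subgroupNormalizer (Rstd hi h2) ⊓ G).1 _).1 (beta_mem hi h2 0 1))
  let K : Subgroup (O (Fin 6) k) := (M.subgroupOf G).map hG.rho
  have hmono : ∀ g : G, Mono (hG.rho g) → (g : G₄) ∈ M := fun g hg => hM1 ⟨hG.mem_normalizer hg, g.2⟩
  have hneg : (-1 : G₄) ∈ M := hM1 ⟨Subgroup.le_normalizer (neg_one_mem hi h2), hG.neg_one_memG⟩
  have hback : ∀ g : G, hG.rho g ∈ K → (g : G₄) ∈ M := by
    rintro g ⟨a, ha, hag⟩
    have ha' : (a : G₄) ∈ M := ha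
    rcases hG.eq_or_neg_of_rho (g := a⁻¹ * g) (by rw [map_mul, map_inv, hag, inv_mul_cancel]) with h | h
    · rw [show (g : G₄) = (a : G₄) by simpa [inv_mul_eq_iff_eq_mul] using h]; exact ha'
    · rw [show (g : G₄) = (a : G₄) * -1 by
        rw [← h]; simp]
      exact mul_mem ha' hneg
  have hKmem : ∀ g : G, Mono (hG.rho g) → hG.rho g ∈ K := fun g hg => ⟨g, hmono g hg, rfl⟩
  have hdd : ∀ S : Finset (Fin 6), Even S.card → dd S ∈ K := by
    intro S
    induction hn : S.card using Nat.strong_induction_on generalizing S with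
    | _ n ih =>
    intro hS
    subst hn
    by_cases h0 : S = ∅
    · rw [h0, dd_empty]; exact one_mem K
    obtain ⟨a, ha⟩ := Finset.nonempty_of_ne_empty h0
    obtain ⟨b, hb, hba⟩ := Finset.exists_mem_ne (s := S) (by
      obtain ⟨l, hl⟩ := hS
      have := Finset.card_pos.mpr ⟨a, ha⟩
      omega) a
    have hsub : ({a, b} : Finset (Fin 6)) ⊆ S := Finset.insert_subset ha (Finset.singleton_subset_iff.mpr hb)
    have hcard : (S \ {a, b}).card = S.card - 2 := by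
      rw [Finset.card_sdiff_of_subset hsub, Finset.card_pair hba.symm]
    have hn2 : 2 ≤ S.card := by rw [← Finset.card_pair hba.symm]; exact Finset.card_le_card hsub
    have h1 : (dd {a, b} : O (Fin 6) k) ∈ K := by
      rw [← hG.rho_beta hba.symm]
      exact hKmem _ (hG.rho_beta hba.symm ▸ mono_dd _)
    have h2' := ih _ (by omega) (S \ {a, b}) hcard ((Nat.even_sub hn2).mpr ⟨fun _ => even_two, fun _ => hS⟩)
    have := mul_mem h1 h2'
    rw [dd_mul] at this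
    rwa [show symmDiff {a, b} (S \ {a, b}) = S by
      ext j
      have := @hsub j
      simp only [Finset.mem_symmDiff, Finset.mem_sdiff] at this ⊢
      tauto] at this
  have hperm : ∀ σ : Equiv.Perm (Fin 6), Equiv.Perm.sign σ = 1 → pG σ ∈ K := by
    have h2swap : ∀ a b c d : Fin 6, a ≠ b → c ≠ d → pG (Equiv.swap a b * Equiv.swap c d) ∈ K := by
      intro a b c d hab hcd
      obtain ⟨g, hg⟩ := hG.exists_swaps hab hcd
      rw [← hg]
      exact hKmem g (hg ▸ mono_pG _)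
    suffices h : ∀ σ : Equiv.Perm (Fin 6), (Equiv.Perm.sign σ = 1 → pG σ ∈ K) ∧
        (Equiv.Perm.sign σ = -1 → ∀ a b : Fin 6, a ≠ b → pG (Equiv.swap a b * σ) ∈ K) from fun σ => (h σ).1
    intro σ
    induction σ using Equiv.Perm.swap_induction_on with
    | one => exact ⟨fun _ => by rw [map_one]; exact one_mem K, fun h => absurd h (by simp)⟩
    | swap_mul τ c d hcd ih =>
      rcases Int.units_eq_one_or (Equiv.Perm.sign τ) with e | e
      · refine ⟨fun h => ?_, fun _ a b hab => ?_⟩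
        · rw [map_mul, Equiv.Perm.sign_swap hcd, e] at h; exact absurd h (by decide)
        · rw [← mul_assoc, map_mul]; exact mul_mem (h2swap a b c d hab hcd) (ih.1 e)
      · refine ⟨fun _ => ih.2 e c d hcd, fun h => ?_⟩
        rw [map_mul, Equiv.Perm.sign_swap hcd, e] at h; exact absurd h (by decide)
  rcases Six.mono_or_pairs hk (by simp) hdd hperm hp with hm | hpairs
  · refine Or.inl (le_antisymm (fun g hg => ⟨?_, hM2 hg⟩) hM1)
    exact hG.mem_normalizer (g := ⟨g, hM2 hg⟩) (hm _ ⟨⟨g, hM2 hg⟩, hg, rfl⟩)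
  · refine Or.inr (le_antisymm hM2 (hG.le_of_pairs fun v w hv hw e1 e2 => ?_))
    have hv0 : v ⬝ᵥ v ≠ 0 := by rw [e1]; exact one_ne_zero
    have hw0 : w ⬝ᵥ w ≠ 0 := by rw [e2]; exact one_ne_zero
    have hval : hG.rho ⟨_, hG.pair v w hv hw (e1.trans e2.symm)⟩ = rr v e1 * rr w e2 := isometry_ext fun x => by
      rw [hG.rho_pair hv0 hw0 (e1.trans e2.symm), app_mul, app_rr, app_rr]
      simp only [rfc, rf, e1, e2, div_one]
    exact hback ⟨_, hG.pair v w hv hw (e1.trans e2.symm)⟩ (hval ▸ hpairs v w e1 e2)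

end Good

end Cfsg.Agent.Lib.SLExtraFour
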