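import Cfsg.Agent.Lib.SLExtraFour.Maximal
import Cfsg.Agent.Lib.SLExtraFour.Transport
import Cfsg.Agent.Lib.LinGroup.Simple

/-!
The normaliser of a group of symplectic type of order 64 is maximal in `SL₄(p)`, `p ≡ 1 mod 4`.
-/

set_option autoImplicit false
set_option linter.unusedSectionVars false

namespace Cfsg.Agent.Lib.SLExtraFour

open Cfsg Cfsg.Geo Matrix
open scoped commutatorElement

variable {F : Type*} [Field F]

/-- The generation property from simplicity. -/
theorem gen_of_simple {S : Type*} [Group S] (hs : IsSimpleGroup (S ⧸ Subgroup.center S))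
    (hp : commutator S = ⊤) (ψ : S →* GL (Fin 4) F) {G : Subgroup (GL (Fin 4) F)} (hG : ψ.range = G)
    (T : Set (GL (Fin 4) F)) (hT : T ⊆ G) (hconj : ∀ g ∈ G, ∀ s ∈ T, g * s * g⁻¹ ∈ T)
    (hne : ∃ s ∈ T, ∃ t ∈ G, s * t ≠ t * s) : G ≤ Subgroup.closure T := by
  have hmemG : ∀ a, ψ a ∈ G := fun a => hG ▸ ⟨a, rfl⟩
  obtain ⟨N, hN⟩ : ∃ N, N = (Subgroup.closure T).comap ψ := ⟨_, rfl⟩
  haveI : N.Normal := ⟨fun x hx k => by
    rw [hN, Subgroup.mem_comap] at hx ⊢
    rw [map_mul, map_mul, map_inv]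
    have hle : Subgroup.closure T ≤ (Subgroup.closure T).comap (MulAut.conj (ψ k)).toMonoidHom :=
      (Subgroup.closure_le _).2 fun s hs => Subgroup.subset_closure (hconj _ (hmemG k) s hs)
    exact hle hx⟩
  have hnc : ¬ N ≤ Subgroup.center S := by
    intro hc
    obtain ⟨s, hs, t, ht, hst⟩ := hne
    obtain ⟨a, ha⟩ : s ∈ ψ.range := hG ▸ hT hs
    obtain ⟨b, hb⟩ : t ∈ ψ.range := hG ▸ ht
    have := Subgroup.mem_center_iff.1 (hc (show a ∈ N by
      rw [hN, Subgroup.mem_comap, ha]; exact Subgroup.subset_closure hs)) b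
    apply hst
    rw [← ha, ← hb, ← map_mul, ← map_mul, this]
  have htop : N = ⊤ := by
    set π := QuotientGroup.mk' (Subgroup.center S) with hπ
    haveI : (N.map π).Normal := Subgroup.Normal.map inferInstance π (QuotientGroup.mk'_surjective _)
    rcases Subgroup.Normal.eq_bot_or_eq_top (H := N.map π) inferInstance with h | h
    · exfalso
      apply hnc
      rw [Subgroup.map_eq_bot_iff, hπ, QuotientGroup.ker_mk'] at h
      exact h
    · rw [eq_top_iff, ← hp, commutator_eq_closure, Subgroup.closure_le]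
      rintro _ ⟨a, b, rfl⟩
      obtain ⟨n, hn, e⟩ := (h ▸ Subgroup.mem_top (π a) : π a ∈ N.map π)
      have hz := QuotientGroup.eq.mp e
      have e : ⁅a, b⁆ = n * (b * n⁻¹ * b⁻¹) := by
        have hc := Subgroup.mem_center_iff.mp hz b
        obtain ⟨z, rfl⟩ : ∃ z, a = n * z := ⟨n⁻¹ * a, by rw [mul_inv_cancel_left]⟩
        rw [inv_mul_cancel_left] at hc
        calc ⁅n * z, b⁆ = n * (z * b) * z⁻¹ * n⁻¹ * b⁻¹ := by rw [commutatorElement_def]; group
          _ = n * (b * n⁻¹ * b⁻¹) := by rw [← hc]; group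
      rw [e]
      exact mul_mem hn (Subgroup.Normal.conj_mem inferInstance _ (inv_mem hn) b)
  intro g hg
  obtain ⟨a, ha⟩ : g ∈ ψ.range := hG ▸ hg
  have : a ∈ N := htop ▸ Subgroup.mem_top a
  rw [hN, Subgroup.mem_comap, ha] at this
  exact this

theorem mem_sl {g : GL (Fin 4) F} : g ∈ specialLinear (Fin 4) F ↔ (g : Matrix (Fin 4) (Fin 4) F).det = 1 := by
  show Matrix.GeneralLinearGroup.det g = 1 ↔ _
  rw [← Units.val_eq_one]; rfl

theorem range_toGL :
    (Matrix.SpecialLinearGroup.toGL : Matrix.SpecialLinearGroup (Fin 4) F →* GL (Fin 4) F).range =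
      specialLinear (Fin 4) F := by
  ext g
  rw [mem_sl]
  constructor
  · rintro ⟨a, rfl⟩; exact a.2
  · exact fun h => ⟨⟨(g : Matrix (Fin 4) (Fin 4) F), h⟩, Units.ext rfl⟩

variable {i : F}

theorem good_linear [Fintype F] (hi : i * i = -1) (h2 : (2 : F) ≠ 0) :
    Good (RingHom.id F) hi h2 (specialLinear (Fin 4) F) := by
  refine ⟨fun g hg => mem_sl.1 hg, fun g _ v => ?_, fun v w hv hw h => mem_sl.2 ?_, fun S hS hc hne => ?_⟩
  · refine ⟨coef i (Classical.LowRank.altProj F
      ((g : Matrix (Fin 4) (Fin 4) F) * (Xv i v * (g : Matrix (Fin 4) (Fin 4) F)ᵀ))), ?_⟩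
    simp only [RingHom.coe_id, Function.id_comp]
    rw [Matrix.mul_assoc]
    conv_rhs => rw [Xv, plc_coef hi h2]
    exact (Classical.LowRank.altEmb_stable _ _).symm
  · exact det_pr hi h2 hv hw (by rw [← phi_dot, ← phi_dot, h])
  · exact gen_of_simple (LinGroup.isSimpleGroup_PSL_fin (by norm_num) (fun h => absurd h (by norm_num)))
      (LinGroup.commutator_SL_fin_eq_top (by norm_num) (fun h => absurd h (by norm_num))) _ range_toGL S hS hc hne

theorem map_conj_sl (P : GL (Fin 4) F) :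
    (specialLinear (Fin 4) F).map (MulAut.conj P).toMonoidHom = specialLinear (Fin 4) F := by
  haveI : (specialLinear (Fin 4) F).Normal := MonoidHom.normal_ker _
  refine le_antisymm ?_ fun x hx => ⟨P⁻¹ * x * P⁻¹⁻¹, Subgroup.Normal.conj_mem inferInstance x hx P⁻¹, by simp [mul_assoc]⟩
  rintro _ ⟨x, hx, rfl⟩
  exact Subgroup.Normal.conj_mem inferInstance x hx P

/-- Clause 6: the normaliser of a group of symplectic type is maximal in `SL₄(p)`. -/
theorem isMaximalIn_normalizer_linear [Fintype F] {R : Subgroup (GL (Fin 4) F)}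
    (hcard : (Fintype.card F).Prime) (h4 : Fintype.card F % 4 = 1) (hR : IsLinearSymplecticTypeData 2 R) :
    IsMaximalIn (specialLinear (Fin 4) F) (subgroupNormalizer R ⊓ specialLinear (Fin 4) F) := by
  haveI : Fact (Fintype.card F).Prime := ⟨hcard⟩
  haveI : CharP F (Fintype.card F) := charP_of_card_eq_prime rfl
  have h2 : (2 : F) ≠ 0 := fun e => by
    have h2' : ((2 : ℕ) : F) = 0 := by exact_mod_cast e
    rw [CharP.cast_eq_zero_iff F (Fintype.card F)] at h2'
    have := Nat.le_of_dvd (by norm_num) h2'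
    have := hcard.two_le
    omega
  obtain ⟨p, e, -, -, h⟩ := hR.field
  rcases h with ⟨ho, -⟩ | ⟨-, -, hZ, -, m, hm⟩ | ⟨-, -, hι, -⟩
  · exact absurd ho (by decide)
  · obtain ⟨i, hi, P, hP⟩ := exists_conj hR.symplecticType hR.absIrred
      (card_of_data hR.symplecticType hR.absIrred hZ h2 hm) hZ h2
    rw [hP]
    exact isMaximalIn_conj hi h2 P (map_conj_sl P) ((good_linear hi h2).isMaximalIn hcard)
  · rw [Fintype.card_fin] at hι; omega

end Cfsg.Agent.Lib.SLExtraFour
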