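import Mathlib
import Cfsg.Prelude.Def_GeometricClasses
import Cfsg.Prelude.Def_LieClassical
import Cfsg.Agent.Lib.SLExtraFour.Linear
import Cfsg.Agent.Lib.Classical.LowRank.Hodge
import Cfsg.Agent.Lib.FormConj.Unitary

/-!
The normaliser of a group of symplectic type of order 64 is maximal in `SU₄(p)`, `p ≡ 3 mod 4`.
-/

set_option autoImplicit false
set_option linter.unusedSectionVars false

namespace Cfsg.Agent.Lib.SLExtraFour

open Cfsg Cfsg.Geo Matrix
open Classical.LowRank (altEmb altProj)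


variable {F : Type*} [Field F] [Fintype F] {p : ℕ} (hF : Fintype.card F = p ^ 2)
include hF

theorem mem_gu {g : GL (Fin 4) F} :
    g ∈ Cfsg.GU 4 F p ↔
      ((g : Matrix (Fin 4) (Fin 4) F).map (Forms.qPowHom hF))ᵀ * (g : Matrix (Fin 4) (Fin 4) F) = 1 := by
  rw [FormConj.mem_GU_iff_twist hF]
  simp [FormConj.twist]

theorem qPow_qPow (x : F) : Forms.qPowHom hF (Forms.qPowHom hF x) = x := Forms.qPowHom_qPowHom hF x

theorem qPow_two : Forms.qPowHom hF (2 : F) = 2 := map_ofNat _ _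

variable [Fact p.Prime] [CharP F p] (h4 : p % 4 = 3)
include h4

theorem qPow_i {i : F} (hi : i * i = -1) : Forms.qPowHom hF i = -i := by
  rw [Forms.qPowHom_apply]
  obtain ⟨m, hm⟩ : ∃ m, p = 2 * (2 * m + 1) + 1 := ⟨p / 4, by omega⟩
  rw [hm, pow_succ, pow_mul, pow_two, hi, (odd_two_mul_add_one m).neg_one_pow, neg_one_mul]

omit h4 in
theorem qPow_cast (x : ZMod p) :
    Forms.qPowHom hF (ZMod.castHom dvd_rfl F x) = ZMod.castHom dvd_rfl F x := by
  rw [Forms.qPowHom_apply, ← map_pow, ZMod.pow_card]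

omit h4 in
theorem exists_cast {x : F} (hx : Forms.qPowHom hF x = x) : ∃ a : ZMod p, ZMod.castHom dvd_rfl F a = x := by
  rw [Forms.qPowHom_apply] at hx
  have h := (Subfield.mem_bot_iff_pow_eq_self F p).2 hx
  exact (bot_le : (⊥ : Subfield F) ≤ (ZMod.castHom dvd_rfl F).fieldRange) h

theorem map_Xv {i : F} (hi : i * i = -1) {v : Fin 6 → F} (hv : ∀ x, Forms.qPowHom hF (v x) = v x) :
    (Xv i v).map (Forms.qPowHom hF) = Xv (-i) v := by
  have hv' : ∀ x, v x ^ p = v x := fun x => by rw [← Forms.qPowHom_apply hF]; exact hv x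
  have hi' : i ^ p = -i := by rw [← Forms.qPowHom_apply hF]; exact qPow_i hF h4 hi
  ext a b
  rw [Matrix.map_apply]
  fin_cases a <;> fin_cases b <;>
    simp [Xv, altEmb, plc, map_add, map_sub, map_mul, map_neg, hv', hi', -Forms.qPowHom_apply,
      hv, qPow_i hF h4 hi] <;> (try ring)

variable {i : F} (hi : i * i = -1) (h2 : (2 : F) ≠ 0)
include hi h2

theorem twisted_plc (v : Fin 6 → ZMod p) :
    Classical.LowRank.Twisted p (plc i (ZMod.castHom dvd_rfl F ∘ v)) := by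
  intro j
  rw [← Forms.qPowHom_apply hF]
  fin_cases j <;>
    simp [plc, map_add, map_mul, qPow_i hF h4 hi, qPow_cast hF, -Forms.qPowHom_apply, -ZMod.castHom_apply,
      sub_eq_add_neg]

theorem coef_fixed {w : Fin 3 ⊕ Fin 3 → F} (hw : Classical.LowRank.Twisted p w) (x : Fin 6) :
    Forms.qPowHom hF (coef i w x) = coef i w x := by
  have e : ∀ j, Forms.qPowHom hF (w (.inl j)) = w (.inr j) := fun j => by
    rw [Forms.qPowHom_apply]; exact (hw j).symm
  have e' : ∀ j, Forms.qPowHom hF (w (.inr j)) = w (.inl j) := fun j => by rw [← e, qPow_qPow]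
  have hi0 := i_ne hi
  fin_cases x <;>
    simp [coef, map_div₀, map_add, map_sub, map_mul, qPow_two, e, e', qPow_i hF h4 hi,
      -Forms.qPowHom_apply] <;> field_simp <;> ring

theorem pr_mem_gu {v w : Fin 6 → F} (hv : ∀ x, Forms.qPowHom hF (v x) = v x)
    (hw : ∀ x, Forms.qPowHom hF (w x) = w x) (hv0 : v ⬝ᵥ v ≠ 0) (hw0 : w ⬝ᵥ w ≠ 0)
    (h : v ⬝ᵥ v = w ⬝ᵥ w) : pr hi h2 v w hv0 hw0 ∈ Cfsg.GU 4 F p := by
  have hc : Forms.qPowHom hF (w ⬝ᵥ w) = w ⬝ᵥ w := by
    simp only [dotProduct, map_sum, map_mul, hw]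
  rw [mem_gu hF, pr_val, Matrix.map_smul' _ _ _ (map_mul _), Matrix.map_mul, map_Xv hF h4 hi hv,
    map_Xv hF h4 (neg_i_sq hi) hw, neg_neg, map_neg, map_inv₀, hc, Matrix.transpose_smul,
    Matrix.transpose_mul, Xv_transpose, Xv_transpose, neg_mul_neg, Matrix.smul_mul, Matrix.mul_smul,
    Matrix.mul_assoc, ← Matrix.mul_assoc (Xv (-i) v) (Xv i v), Xv_mul_self' hi h2, Matrix.smul_mul,
    Matrix.one_mul, Matrix.mul_smul, Xv_mul_self hi h2, smul_smul, smul_smul, smul_smul]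
  rw [h]
  field_simp
  simp

omit [Fact p.Prime] [CharP F p] h4 hi h2 in
theorem mem_sug {g : GL (Fin 4) F} (hg : g ∈ Cfsg.GU 4 F p ⊓ specialLinear (Fin 4) F) :
    ∃ s : Cfsg.SU 4 F p, (s.1 : Matrix (Fin 4) (Fin 4) F) = g :=
  ⟨⟨⟨(g : Matrix (Fin 4) (Fin 4) F), mem_sl.1 hg.2⟩, fun u v => hg.1 u v⟩, rfl⟩

theorem good_unitary (hp3 : 3 ≤ p) :
    Good (ZMod.castHom dvd_rfl F) hi h2 (Cfsg.GU 4 F p ⊓ specialLinear (Fin 4) F) := by
  refine ⟨fun g hg => mem_sl.1 hg.2, fun g hg v => ?_, fun v w hv hw h => ⟨?_, mem_sl.2 ?_⟩,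
    fun S hS hc hne => ?_⟩
  · obtain ⟨s, hs⟩ := mem_sug hF hg
    have ht := Classical.LowRank.twisted_SU hF s _ (twisted_plc hF h4 hi h2 v)
    choose w hw using fun x => exists_cast hF (coef_fixed hF h4 hi h2 ht x)
    refine ⟨w, ?_⟩
    rw [show (ZMod.castHom dvd_rfl F ∘ w) = _ from funext hw]
    conv_rhs => rw [Xv, plc_coef hi h2]
    rw [Classical.LowRank.altAct_apply, Classical.LowRank.altEmb_stable, Matrix.mul_assoc, ← hs]
    rfl
  · exact pr_mem_gu hF h4 hi h2 (fun x => qPow_cast hF _) (fun x => qPow_cast hF _) hv hw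
      (by have := congrArg (ZMod.castHom dvd_rfl F) h; rwa [phi_dot, phi_dot] at this)
  · exact det_pr hi h2 hv hw (by rw [← phi_dot, ← phi_dot, h])
  · have hrange : ((Matrix.SpecialLinearGroup.toGL : Matrix.SpecialLinearGroup (Fin 4) F →* GL (Fin 4) F).comp
        (Cfsg.SU 4 F p).subtype).range = Cfsg.GU 4 F p ⊓ specialLinear (Fin 4) F := by
      ext g
      constructor
      · rintro ⟨s, rfl⟩
        exact ⟨fun u v => s.2 u v, mem_sl.2 s.1.2⟩
      · intro hg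
        obtain ⟨s, hs⟩ := mem_sug hF hg
        exact ⟨s, Units.ext hs⟩
    exact gen_of_simple (S := Cfsg.SU (2 + 2) F p)
      (Classical.isSimpleGroup_PSU hF 2 (by norm_num) (by norm_num))
      (Classical.commutator_SU hF 2 (by norm_num) (by norm_num)) _ hrange S hS hc hne

/-- Unitary conjugators. -/
theorem map_conj_sug (P : GL (Fin 4) F)
    (hR : (Rstd hi h2).map (MulAut.conj P).toMonoidHom ≤ Cfsg.GU 4 F p) :
    (Cfsg.GU 4 F p ⊓ specialLinear (Fin 4) F).map (MulAut.conj P).toMonoidHom =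
      Cfsg.GU 4 F p ⊓ specialLinear (Fin 4) F := by
  classical
  set σ := Forms.qPowHom hF with hσ
  obtain ⟨A, hA⟩ : ∃ A, A = ((P : Matrix (Fin 4) (Fin 4) F).map σ)ᵀ * (P : Matrix (Fin 4) (Fin 4) F) :=
    ⟨_, rfl⟩
  have hconj : ∀ r : GL (Fin 4) F, P * r * P⁻¹ ∈ Cfsg.GU 4 F p →
      ((r : Matrix (Fin 4) (Fin 4) F).map σ)ᵀ * A * (r : Matrix (Fin 4) (Fin 4) F) = A := by
    intro r hr
    rw [mem_gu hF, Units.val_mul, Units.val_mul, Matrix.map_mul, Matrix.map_mul, Matrix.transpose_mul,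
      Matrix.transpose_mul] at hr
    have h := congrArg (fun m => ((P : Matrix (Fin 4) (Fin 4) F).map σ)ᵀ * m * (P : Matrix (Fin 4) (Fin 4) F)) hr
    have e : ((P : Matrix (Fin 4) (Fin 4) F).map σ)ᵀ * (((P⁻¹ : GL (Fin 4) F) : Matrix (Fin 4) (Fin 4) F).map σ)ᵀ = 1 := by
      rw [← Matrix.transpose_mul, ← Matrix.map_mul, Units.inv_mul, Matrix.map_one _ (map_zero σ) (map_one σ),
        Matrix.transpose_one]
    simp only [Matrix.mul_assoc, Matrix.mul_one, Units.inv_mul] at h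
    rw [← Matrix.mul_assoc ((P : Matrix (Fin 4) (Fin 4) F).map σ)ᵀ, e, Matrix.one_mul] at h
    rw [hA]
    simpa only [Matrix.mul_assoc] using h
  have hgen : ∀ b, beta hi h2 b 0 ∈ Cfsg.GU 4 F p := fun b =>
    pr_mem_gu hF h4 hi h2 (fun x => by simp [Pi.single_apply, apply_ite (Forms.qPowHom hF), -Forms.qPowHom_apply])
      (fun x => by simp [Pi.single_apply, apply_ite (Forms.qPowHom hF), -Forms.qPowHom_apply]) _ _ (by simp)
  have hA0 : A = A 0 0 • 1 := scalar_of_commute hi h2 fun b => by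
    have h := hconj _ (hR ⟨_, beta_mem hi h2 b 0, rfl⟩)
    have hb := (mem_gu hF).1 (hgen b)
    have hb' := mul_eq_one_comm.mp hb
    calc A * ((beta hi h2 b 0 : GL (Fin 4) F) : Matrix (Fin 4) (Fin 4) F)
        = (((beta hi h2 b 0 : GL (Fin 4) F) : Matrix (Fin 4) (Fin 4) F) *
            (((beta hi h2 b 0 : GL (Fin 4) F) : Matrix (Fin 4) (Fin 4) F).map σ)ᵀ) * A *
            ((beta hi h2 b 0 : GL (Fin 4) F) : Matrix (Fin 4) (Fin 4) F) := by rw [hb', Matrix.one_mul]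
      _ = ((beta hi h2 b 0 : GL (Fin 4) F) : Matrix (Fin 4) (Fin 4) F) * A := by
          rw [Matrix.mul_assoc _ _ A, Matrix.mul_assoc _ (_ * A), h]
  have hmem : ∀ g ∈ Cfsg.GU 4 F p, P * g * P⁻¹ ∈ Cfsg.GU 4 F p := by
    intro g hg
    rw [mem_gu hF] at hg ⊢
    have e : (((P⁻¹ : GL (Fin 4) F) : Matrix (Fin 4) (Fin 4) F).map σ)ᵀ * A *
        ((P⁻¹ : GL (Fin 4) F) : Matrix (Fin 4) (Fin 4) F) = 1 := by
      rw [hA, ← Matrix.mul_assoc, ← Matrix.transpose_mul, ← Matrix.map_mul, Units.mul_inv,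
        Matrix.map_one _ (map_zero σ) (map_one σ), Matrix.transpose_one, Matrix.one_mul, Units.mul_inv]
    have eg : ((g : Matrix (Fin 4) (Fin 4) F).map σ)ᵀ * A * (g : Matrix (Fin 4) (Fin 4) F) = A := by
      rw [hA0, Matrix.mul_smul, Matrix.mul_one, Matrix.smul_mul, hg]
    simp only [Units.val_mul, Matrix.map_mul, Matrix.transpose_mul]
    calc _ = (((P⁻¹ : GL (Fin 4) F) : Matrix (Fin 4) (Fin 4) F).map σ)ᵀ *
          (((g : Matrix (Fin 4) (Fin 4) F).map σ)ᵀ * A * (g : Matrix (Fin 4) (Fin 4) F)) *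
          ((P⁻¹ : GL (Fin 4) F) : Matrix (Fin 4) (Fin 4) F) := by
          rw [hA]; simp only [Matrix.mul_assoc]; rfl
      _ = 1 := by rw [eg, e]
  have hle : (Cfsg.GU 4 F p ⊓ specialLinear (Fin 4) F).map (MulAut.conj P).toMonoidHom ≤
      Cfsg.GU 4 F p ⊓ specialLinear (Fin 4) F := by
    haveI : (specialLinear (Fin 4) F).Normal := MonoidHom.normal_ker _
    rintro _ ⟨g, hg, rfl⟩
    exact ⟨hmem g hg.1, Subgroup.Normal.conj_mem inferInstance g hg.2 P⟩
  exact Subgroup.eq_of_le_of_card_ge hle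
    (Subgroup.card_map_of_injective (MulAut.conj P).injective).ge

omit hi h2 h4 [CharP F p] in
/-- Clause 9: the normaliser of a group of symplectic type is maximal in `SU₄(p)`. -/
theorem isMaximalIn_normalizer_unitary (h4 : p % 4 = 3) {R : Subgroup (GL (Fin 4) F)}
    (hS : IsSymplecticTypeGroup 2 R) (hirr : ActsAbsolutelyIrreducibly (matrixSet R))
    (hGU : R ≤ Cfsg.GU 4 F p) (hcard : Nat.card R = 64) (hZ : Nat.card (Subgroup.center R) = 4) :
    IsMaximalIn (Cfsg.GU 4 F p ⊓ specialLinear (Fin 4) F)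
      (subgroupNormalizer R ⊓ (Cfsg.GU 4 F p ⊓ specialLinear (Fin 4) F)) := by
  haveI := charP_of_card_eq_prime_pow hF
  have hp := (Fact.out : p.Prime)
  have hp3 : 3 ≤ p := by omega
  have h2 : (2 : F) ≠ 0 := fun e => by
    have h2' : ((2 : ℕ) : F) = 0 := by exact_mod_cast e
    rw [CharP.cast_eq_zero_iff F p] at h2'
    have := Nat.le_of_dvd (by norm_num) h2'
    omega
  obtain ⟨i, hi, P, hP⟩ := exists_conj hS hirr hcard hZ h2
  rw [hP]
  exact isMaximalIn_conj hi h2 P (map_conj_sug hF h4 hi h2 P (hP ▸ hGU))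
    ((good_unitary hF h4 hi h2 hp3).isMaximalIn (by rw [ZMod.card]; exact hp))

end Cfsg.Agent.Lib.SLExtraFour
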