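import Cfsg.Agent.Lib.Classical.LowRank.Alt
import Cfsg.Agent.Lib.OrthFrame.Std
import Cfsg.Prelude.Def_GeometricClasses

/-!
Alternating `4 × 4` matrices in six orthonormal coordinates (for a field with a square root `i` of `-1`), the
matrices `X_v X_w⁻¹` and the group of order 64 generated by the scalar `i` and the products of basis matrices.
-/

set_option autoImplicit false
set_option linter.unusedSectionVars false

namespace Cfsg.Agent.Lib.SLExtraFour

open Matrix Cfsg.Agent.Lib.Classical.LowRank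

variable {F : Type*} [Field F] (i : F)

local notation "M₄" => Matrix (Fin 4) (Fin 4) F
local notation "G₄" => GL (Fin 4) F

/-- Plücker coordinates of six orthonormal coordinates. -/
def plc (v : Fin 6 → F) : Fin 3 ⊕ Fin 3 → F :=
  Sum.elim ![v 0 + i * v 3, v 1 + i * v 4, v 2 + i * v 5] ![v 0 - i * v 3, v 1 - i * v 4, v 2 - i * v 5]

/-- The alternating matrix of six coordinates. -/
def Xv (v : Fin 6 → F) : M₄ := altEmb F (plc i v)

theorem plc_add (v w : Fin 6 → F) : plc i (v + w) = plc i v + plc i w := by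
  funext x; rcases x with x | x <;> fin_cases x <;> simp [plc] <;> ring

theorem plc_smul (c : F) (v : Fin 6 → F) : plc i (c • v) = c • plc i v := by
  funext x; rcases x with x | x <;> fin_cases x <;> simp [plc] <;> ring

theorem Xv_add (v w : Fin 6 → F) : Xv i (v + w) = Xv i v + Xv i w := by
  rw [Xv, plc_add, map_add]; rfl

theorem Xv_smul (c : F) (v : Fin 6 → F) : Xv i (c • v) = c • Xv i v := by
  rw [Xv, plc_smul, map_smul]; rfl

theorem Xv_neg (v : Fin 6 → F) : Xv i (-v) = -Xv i v := by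
  rw [← neg_one_smul F v, Xv_smul, neg_one_smul]

theorem Xv_sub (v w : Fin 6 → F) : Xv i (v - w) = Xv i v - Xv i w := by
  rw [sub_eq_add_neg, Xv_add, Xv_neg, sub_eq_add_neg]

theorem Xv_transpose (v : Fin 6 → F) : (Xv i v)ᵀ = -Xv i v := by
  ext a b; fin_cases a <;> fin_cases b <;> simp [Xv, altEmb]

/-- The six coordinates of Plücker coordinates. -/
def coef (p : Fin 3 ⊕ Fin 3 → F) : Fin 6 → F :=
  ![(p (.inl 0) + p (.inr 0)) / 2, (p (.inl 1) + p (.inr 1)) / 2, (p (.inl 2) + p (.inr 2)) / 2,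
    (p (.inl 0) - p (.inr 0)) / (2 * i), (p (.inl 1) - p (.inr 1)) / (2 * i),
    (p (.inl 2) - p (.inr 2)) / (2 * i)]

variable {i} (hi : i * i = -1)
include hi

theorem i_ne : i ≠ 0 := fun h => by simp [h] at hi

theorem neg_i_sq : -i * -i = -1 := by rw [neg_mul_neg, hi]

theorem coef_plc (h2 : (2 : F) ≠ 0) (v : Fin 6 → F) : coef i (plc i v) = v := by
  funext x; fin_cases x <;> simp [coef, plc] <;> field_simp [i_ne hi] <;> ring

theorem plc_coef (h2 : (2 : F) ≠ 0) (p : Fin 3 ⊕ Fin 3 → F) : plc i (coef i p) = p := by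
  funext x; rcases x with x | x <;> fin_cases x <;> simp [coef, plc] <;> field_simp [i_ne hi] <;> ring

theorem Xv_inj (h2 : (2 : F) ≠ 0) {v w : Fin 6 → F} (h : Xv i v = Xv i w) : v = w := by
  have := congrArg (fun m => coef i (altProj F m)) h
  simpa [Xv, altProj_altEmb, coef_plc hi h2] using this

theorem quad_plc (v : Fin 6 → F) : Cfsg.quadFormPlus 3 F (plc i v) = v ⬝ᵥ v := by
  simp [Cfsg.quadFormPlus, plc, Fin.sum_univ_three, dotProduct, Fin.sum_univ_six]
  linear_combination (-(v 3 * v 3 + v 4 * v 4 + v 5 * v 5)) * hi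

theorem det_Xv (v : Fin 6 → F) : (Xv i v).det = (v ⬝ᵥ v) ^ 2 := by
  rw [← quad_plc hi, det_fin_four]
  simp [Xv, altEmb, Cfsg.quadFormPlus, Fin.sum_univ_three]
  ring

set_option maxHeartbeats 2000000 in
theorem Xv_mul_add (v w : Fin 6 → F) :
    Xv i v * Xv (-i) w + Xv i w * Xv (-i) v = (-(2 * (v ⬝ᵥ w))) • (1 : M₄) := by
  have key : ∀ (a b : Fin 3 ⊕ Fin 3 → F), altEmb F a * altEmb F (b ∘ Sum.swap) + altEmb F b * altEmb F (a ∘ Sum.swap) =
      (-(a (.inl 0) * b (.inr 0) + a (.inr 0) * b (.inl 0) + (a (.inl 1) * b (.inr 1) + a (.inr 1) * b (.inl 1)) +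
        (a (.inl 2) * b (.inr 2) + a (.inr 2) * b (.inl 2)))) • (1 : M₄) := by
    intro a b
    ext x y
    fin_cases x <;> fin_cases y <;>
      simp [altEmb, Matrix.mul_apply, Matrix.vecMul, dotProduct, Fin.sum_univ_four, Sum.swap] <;> ring
  have hs : ∀ u : Fin 6 → F, plc (-i) u = plc i u ∘ Sum.swap := fun u => by
    funext x; rcases x with x | x <;> fin_cases x <;> simp [plc, Sum.swap] <;> ring
  rw [Xv, Xv, Xv, Xv, hs, hs, key]
  congr 1
  simp [plc, dotProduct, Fin.sum_univ_six]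
  linear_combination (2 * (v 3 * w 3 + v 4 * w 4 + v 5 * w 5)) * hi

theorem Xv_mul_self (h2 : (2 : F) ≠ 0) (v : Fin 6 → F) : Xv i v * Xv (-i) v = (-(v ⬝ᵥ v)) • (1 : M₄) := by
  have h := Xv_mul_add hi v v
  rw [← two_smul F (Xv i v * Xv (-i) v), ← mul_neg, mul_smul] at h
  exact smul_right_injective M₄ h2 h

theorem Xv_mul_self' (h2 : (2 : F) ≠ 0) (v : Fin 6 → F) : Xv (-i) v * Xv i v = (-(v ⬝ᵥ v)) • (1 : M₄) := by
  have := Xv_mul_self (neg_i_sq hi) h2 v
  rwa [neg_neg] at this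

/-- The triple product. -/
theorem Xv_sandwich (h2 : (2 : F) ≠ 0) (v y : Fin 6 → F) :
    Xv i v * Xv (-i) y * Xv i v = (v ⬝ᵥ v) • Xv i y - (2 * (v ⬝ᵥ y)) • Xv i v := by
  have h := congrArg (fun m => m * Xv i v) (Xv_mul_add hi v y)
  simp only [add_mul, Matrix.mul_assoc _ (Xv (-i) v), Xv_mul_self' hi h2, Matrix.mul_smul, mul_one,
    Matrix.smul_mul, one_mul] at h
  rw [eq_sub_iff_add_eq]
  rw [neg_smul, neg_smul, add_neg_eq_iff_eq_add] at h
  rw [h]; abel

variable (h2 : (2 : F) ≠ 0)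
include h2

/-- An anisotropic vector as an invertible matrix. -/
def Xu (v : Fin 6 → F) (hv : v ⬝ᵥ v ≠ 0) : G₄ where
  val := Xv i v
  inv := (-(v ⬝ᵥ v)⁻¹) • Xv (-i) v
  val_inv := by
    rw [Matrix.mul_smul, Xv_mul_self hi h2, smul_smul, neg_mul_neg, inv_mul_cancel₀ hv, one_smul]
  inv_val := by
    rw [Matrix.smul_mul, Xv_mul_self' hi h2, smul_smul, neg_mul_neg, inv_mul_cancel₀ hv, one_smul]

theorem Xu_val (v : Fin 6 → F) (hv : v ⬝ᵥ v ≠ 0) : ((Xu hi h2 v hv : G₄) : M₄) = Xv i v := rfl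

theorem Xu_inv_val (v : Fin 6 → F) (hv : v ⬝ᵥ v ≠ 0) :
    (((Xu hi h2 v hv)⁻¹ : G₄) : M₄) = (-(v ⬝ᵥ v)⁻¹) • Xv (-i) v := rfl

theorem Xu_congr {v w : Fin 6 → F} (hv : v ⬝ᵥ v ≠ 0) (hw : w ⬝ᵥ w ≠ 0) (h : v = w) :
    Xu hi h2 v hv = Xu hi h2 w hw := by subst h; rfl

/-- `X_v X_w⁻¹` -/
def pr (v w : Fin 6 → F) (hv : v ⬝ᵥ v ≠ 0) (hw : w ⬝ᵥ w ≠ 0) : G₄ := Xu hi h2 v hv * (Xu hi h2 w hw)⁻¹

theorem pr_val (v w : Fin 6 → F) (hv : v ⬝ᵥ v ≠ 0) (hw : w ⬝ᵥ w ≠ 0) :
    ((pr hi h2 v w hv hw : G₄) : M₄) = (-(w ⬝ᵥ w)⁻¹) • (Xv i v * Xv (-i) w) := by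
  rw [pr, Units.val_mul, Xu_val, Xu_inv_val, Matrix.mul_smul]

theorem det_pr {v w : Fin 6 → F} (hv : v ⬝ᵥ v ≠ 0) (hw : w ⬝ᵥ w ≠ 0) (h : v ⬝ᵥ v = w ⬝ᵥ w) :
    ((pr hi h2 v w hv hw : G₄) : M₄).det = 1 := by
  rw [pr_val, Matrix.det_smul, Matrix.det_mul, det_Xv hi, det_Xv (neg_i_sq hi), h, Fintype.card_fin]
  field_simp

omit hi h2 in
/-- The transpose of an invertible matrix. -/
def trG (g : G₄) : G₄ where
  val := (g : M₄)ᵀ
  inv := ((g⁻¹ : G₄) : M₄)ᵀ
  val_inv := by rw [← Matrix.transpose_mul, Units.inv_mul, Matrix.transpose_one]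
  inv_val := by rw [← Matrix.transpose_mul, Units.mul_inv, Matrix.transpose_one]

omit hi h2 in
theorem trG_val (g : G₄) : ((trG g : G₄) : M₄) = (g : M₄)ᵀ := rfl

theorem conj_Xu {g : G₄} {v w : Fin 6 → F} (hv : v ⬝ᵥ v ≠ 0) (hw : w ⬝ᵥ w ≠ 0)
    (h : (g : M₄) * Xv i v * (g : M₄)ᵀ = Xv i w) : g * Xu hi h2 v hv * trG g = Xu hi h2 w hw :=
  Units.ext (by rw [Units.val_mul, Units.val_mul, Xu_val, Xu_val, trG_val, h])

theorem conj_pr {g : G₄} {v v' w w' : Fin 6 → F} (hv : v ⬝ᵥ v ≠ 0) (hv' : v' ⬝ᵥ v' ≠ 0) (hw : w ⬝ᵥ w ≠ 0)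
    (hw' : w' ⬝ᵥ w' ≠ 0) (h : (g : M₄) * Xv i v * (g : M₄)ᵀ = Xv i w)
    (h' : (g : M₄) * Xv i v' * (g : M₄)ᵀ = Xv i w') :
    g * pr hi h2 v v' hv hv' * g⁻¹ = pr hi h2 w w' hw hw' := by
  rw [pr, pr, ← conj_Xu hi h2 hv hw h, ← conj_Xu hi h2 hv' hw' h']
  group

omit hi h2 in
/-- The reflection of an anisotropic vector. -/
def rfc (v x : Fin 6 → F) : Fin 6 → F := x - (2 * (v ⬝ᵥ x) / (v ⬝ᵥ v)) • v

/-- `X_v X_w⁻¹` acts as a product of two reflections. -/
theorem pr_sandwich {v w : Fin 6 → F} (hv : v ⬝ᵥ v ≠ 0) (hw : w ⬝ᵥ w ≠ 0) (h : v ⬝ᵥ v = w ⬝ᵥ w) (x : Fin 6 → F) :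
    ((pr hi h2 v w hv hw : G₄) : M₄) * Xv i x * ((pr hi h2 v w hv hw : G₄) : M₄)ᵀ = Xv i (rfc v (rfc w x)) := by
  obtain ⟨c, hc⟩ : ∃ c, w ⬝ᵥ w = c := ⟨_, rfl⟩
  rw [hc] at h
  have hc0 : c ≠ 0 := hc ▸ hw
  have hB := Xv_sandwich (neg_i_sq hi) h2 w x
  rw [neg_neg, hc, ← Xv_smul, ← Xv_smul, ← Xv_sub] at hB
  rw [pr_val, hc, Matrix.transpose_smul, Matrix.transpose_mul, Xv_transpose, Xv_transpose, neg_mul_neg,
    Matrix.smul_mul, Matrix.mul_smul, Matrix.smul_mul, smul_smul,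
    show Xv i v * Xv (-i) w * Xv i x * (Xv (-i) w * Xv i v) = Xv i v * (Xv (-i) w * Xv i x * Xv (-i) w) * Xv i v by
      simp only [Matrix.mul_assoc], hB, Xv_sandwich hi h2, h, ← Xv_smul, ← Xv_smul, ← Xv_sub, ← Xv_smul]
  congr 1
  simp only [rfc, h, hc, dotProduct_sub, dotProduct_smul, smul_eq_mul]
  funext j
  simp only [Pi.smul_apply, Pi.sub_apply, smul_eq_mul]
  field_simp

omit hi h2 in
theorem ax_aniso (a : Fin 6) : (Pi.single a 1 : Fin 6 → F) ⬝ᵥ Pi.single a 1 ≠ 0 := by simp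

/-- A basic product. -/
abbrev beta (a b : Fin 6) : G₄ := pr hi h2 (Pi.single a 1) (Pi.single b 1) (ax_aniso a) (ax_aniso b)

/-- The scalar `i`. -/
def iS : G₄ where
  val := i • 1
  inv := (-i) • 1
  val_inv := by rw [Matrix.smul_mul, Matrix.one_mul, smul_smul, mul_neg, hi, neg_neg, one_smul]
  inv_val := by rw [Matrix.smul_mul, Matrix.one_mul, smul_smul, neg_mul, hi, neg_neg, one_smul]

omit h2 in
theorem iS_val : ((iS hi : G₄) : M₄) = i • 1 := rfl

omit h2 in
theorem iS_comm (g : G₄) : g * iS hi = iS hi * g :=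
  Units.ext (by rw [Units.val_mul, Units.val_mul, iS_val, Matrix.smul_mul, Matrix.mul_smul, one_mul, mul_one])

/-- The group of order 64. -/
def Rstd : Subgroup G₄ := Subgroup.closure ({iS hi} ∪ Set.range fun b => beta hi h2 b 0)

theorem iS_mem : iS hi ∈ Rstd hi h2 := Subgroup.subset_closure (Or.inl rfl)

theorem neg_one_mem : (-1 : G₄) ∈ Rstd hi h2 := by
  have : (-1 : G₄) = iS hi * iS hi := Units.ext (by
    rw [Units.val_mul, iS_val, Matrix.smul_mul, Matrix.one_mul, smul_smul, hi, neg_one_smul, Units.val_neg,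
      Units.val_one])
  rw [this]
  exact mul_mem (iS_mem hi h2) (iS_mem hi h2)

theorem beta_mem (a b : Fin 6) : beta hi h2 a b ∈ Rstd hi h2 := by
  have h : ∀ c, beta hi h2 c 0 ∈ Rstd hi h2 := fun c => Subgroup.subset_closure (Or.inr ⟨c, rfl⟩)
  rw [show beta hi h2 a b = beta hi h2 a 0 * (beta hi h2 b 0)⁻¹ by simp only [pr]; group]
  exact mul_mem (h a) (inv_mem (h b))

theorem beta_val (a : Fin 6) :
    ((beta hi h2 a 0 : G₄) : M₄) = -(Xv i (Pi.single a 1) * Xv (-i) (Pi.single 0 1)) := by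
  rw [pr_val]; simp

theorem b1 : ((beta hi h2 1 0 : G₄) : M₄) = !![0, 0, 0, -1; 0, 0, -1, 0; 0, 1, 0, 0; 1, 0, 0, 0] := by
  rw [beta_val]; ext x y
  fin_cases x <;> fin_cases y <;> simp [Xv, plc, altEmb, Matrix.vecMul, dotProduct, Fin.sum_univ_four]

theorem b2 : ((beta hi h2 2 0 : G₄) : M₄) = !![0, 0, 1, 0; 0, 0, 0, -1; -1, 0, 0, 0; 0, 1, 0, 0] := by
  rw [beta_val]; ext x y
  fin_cases x <;> fin_cases y <;> simp [Xv, plc, altEmb, Matrix.vecMul, dotProduct, Fin.sum_univ_four]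

theorem b3 : ((beta hi h2 3 0 : G₄) : M₄) = !![i, 0, 0, 0; 0, i, 0, 0; 0, 0, -i, 0; 0, 0, 0, -i] := by
  rw [beta_val]; ext x y
  fin_cases x <;> fin_cases y <;> simp [Xv, plc, altEmb, Matrix.vecMul, dotProduct, Fin.sum_univ_four]

theorem b4 : ((beta hi h2 4 0 : G₄) : M₄) = !![0, 0, 0, -i; 0, 0, i, 0; 0, i, 0, 0; -i, 0, 0, 0] := by
  rw [beta_val]; ext x y
  fin_cases x <;> fin_cases y <;> simp [Xv, plc, altEmb, Matrix.vecMul, dotProduct, Fin.sum_univ_four]

theorem b5 : ((beta hi h2 5 0 : G₄) : M₄) = !![0, 0, i, 0; 0, 0, 0, i; i, 0, 0, 0; 0, i, 0, 0] := by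
  rw [beta_val]; ext x y
  fin_cases x <;> fin_cases y <;> simp [Xv, plc, altEmb, Matrix.vecMul, dotProduct, Fin.sum_univ_four]

/-- Every element commutes or anticommutes with `beta 3 0`. -/
theorem comm_or_anti_three {x : G₄} (hx : x ∈ Rstd hi h2) :
    x * beta hi h2 3 0 = beta hi h2 3 0 * x ∨ x * beta hi h2 3 0 = -(beta hi h2 3 0 * x) := by
  induction hx using Subgroup.closure_induction with
  | mem x hx =>
    rcases hx with rfl | ⟨b, rfl⟩
    · exact Or.inl (iS_comm hi _).symm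
    · have e0 : beta hi h2 0 0 = 1 := by simp only [pr]; group
      fin_cases b
      · left; show beta hi h2 0 0 * _ = _ * beta hi h2 0 0; rw [e0, one_mul, mul_one]
      · right; show beta hi h2 1 0 * _ = -(_ * beta hi h2 1 0); apply Units.ext
        rw [Units.val_neg, Units.val_mul, Units.val_mul, b1, b3]
        ext x y; fin_cases x <;> fin_cases y <;> simp [Matrix.vecMul, dotProduct, Fin.sum_univ_four]
      · right; show beta hi h2 2 0 * _ = -(_ * beta hi h2 2 0); apply Units.ext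
        rw [Units.val_neg, Units.val_mul, Units.val_mul, b2, b3]
        ext x y; fin_cases x <;> fin_cases y <;> simp [Matrix.vecMul, dotProduct, Fin.sum_univ_four]
      · left; rfl
      · right; show beta hi h2 4 0 * _ = -(_ * beta hi h2 4 0); apply Units.ext
        rw [Units.val_neg, Units.val_mul, Units.val_mul, b4, b3]
        ext x y; fin_cases x <;> fin_cases y <;> simp [Matrix.vecMul, dotProduct, Fin.sum_univ_four]
      · right; show beta hi h2 5 0 * _ = -(_ * beta hi h2 5 0); apply Units.ext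
        rw [Units.val_neg, Units.val_mul, Units.val_mul, b5, b3]
        ext x y; fin_cases x <;> fin_cases y <;> simp [Matrix.vecMul, dotProduct, Fin.sum_univ_four]
  | one => simp
  | mul x y _ _ hx hy =>
    rcases hx with hx | hx <;> rcases hy with hy | hy
    · left; rw [mul_assoc, hy, ← mul_assoc, hx, mul_assoc]
    · right; rw [mul_assoc, hy, mul_neg, ← mul_assoc, hx, mul_assoc]
    · right; rw [mul_assoc, hy, ← mul_assoc, hx, neg_mul, mul_assoc]
    · left; rw [mul_assoc, hy, mul_neg, ← mul_assoc, hx, neg_mul, neg_neg, mul_assoc]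
  | inv x _ hx =>
    rcases hx with hx | hx
    · left; rw [eq_comm, eq_inv_mul_iff_mul_eq, ← mul_assoc, hx, mul_inv_cancel_right]
    · right
      calc x⁻¹ * beta hi h2 3 0 = -(x⁻¹ * -(beta hi h2 3 0 * x) * x⁻¹) := by
            simp only [mul_neg, neg_mul, neg_neg, mul_assoc, mul_inv_cancel, mul_one]
        _ = -(beta hi h2 3 0 * x⁻¹) := by rw [← hx, inv_mul_cancel_left]

/-- A matrix commuting with the generators is scalar. -/
theorem scalar_of_commute {g : M₄} (h : ∀ b, g * ((beta hi h2 b 0 : G₄) : M₄) = ((beta hi h2 b 0 : G₄) : M₄) * g) :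
    g = g 0 0 • 1 := by
  have h1 := h 1; have h3 := h 3; have h5 := h 5; have h2' := h 2
  rw [b1] at h1; rw [b2] at h2'; rw [b3] at h3; rw [b5] at h5
  have hi0 := i_ne hi
  have off : ∀ {t : F}, t * i = -(i * t) → t = 0 := fun {t} e =>
    (mul_eq_zero.1 (show (2 * i) * t = 0 by linear_combination e)).resolve_left (mul_ne_zero h2 hi0)
  have sgn : ∀ {t : F}, t = -t → t = 0 := fun {t} e =>
    (mul_eq_zero.1 (show (2 : F) * t = 0 by linear_combination e)).resolve_left h2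
  have e3 := fun x y => congrFun (congrFun h3 x) y
  have e5 := fun x y => congrFun (congrFun h5 x) y
  have e1 := fun x y => congrFun (congrFun h1 x) y
  have e2 := fun x y => congrFun (congrFun h2' x) y
  simp [Matrix.mul_apply, Fin.sum_univ_four, Matrix.vecMul, dotProduct] at e3 e5 e1 e2
  have z02 : g 0 2 = 0 := off (by have := e3 0 2; simp at this; linear_combination -this)
  have z03 : g 0 3 = 0 := off (by have := e3 0 3; simp at this; linear_combination -this)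
  have z12 : g 1 2 = 0 := off (by have := e3 1 2; simp at this; linear_combination -this)
  have z13 : g 1 3 = 0 := off (by have := e3 1 3; simp at this; linear_combination -this)
  have z20 : g 2 0 = 0 := off (by have := e3 2 0; simp at this; linear_combination this)
  have z21 : g 2 1 = 0 := off (by have := e3 2 1; simp at this; linear_combination this)
  have z30 : g 3 0 = 0 := off (by have := e3 3 0; simp at this; linear_combination this)
  have z31 : g 3 1 = 0 := off (by have := e3 3 1; simp at this; linear_combination this)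
  have q22 : g 2 2 = g 0 0 := mul_right_cancel₀ hi0 (by have := e5 0 2; simp at this; linear_combination -this)
  have q33 : g 3 3 = g 1 1 := mul_right_cancel₀ hi0 (by have := e5 1 3; simp at this; linear_combination -this)
  have q23 : g 2 3 = g 0 1 := mul_right_cancel₀ hi0 (by have := e5 0 3; simp at this; linear_combination -this)
  have q32 : g 3 2 = g 1 0 := mul_right_cancel₀ hi0 (by have := e5 1 2; simp at this; linear_combination -this)
  have z01 : g 0 1 = 0 := sgn (by have := e2 0 3; simp at this; linear_combination -this - q23)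
  have z10 : g 1 0 = 0 := sgn (by have := e2 1 2; simp at this; linear_combination this - q32)
  have q11 : g 1 1 = g 0 0 := by have := e1 0 3; simp at this; linear_combination -this - q33
  ext x y
  fin_cases x <;> fin_cases y <;>
    simp [z02, z03, z12, z13, z20, z21, z30, z31, q22, q33, q23, q32, z01, z10, q11]

/-- A conjugate of a basic product outside the group. -/
theorem exists_not_mem :
    ∃ (hV : (![1, 1, 1, 1, 0, 0] : Fin 6 → F) ⬝ᵥ ![1, 1, 1, 1, 0, 0] ≠ 0)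
      (hW : (![0, 0, 0, 0, 0, 2] : Fin 6 → F) ⬝ᵥ ![0, 0, 0, 0, 0, 2] ≠ 0),
      pr hi h2 _ _ hV hW * beta hi h2 0 1 * (pr hi h2 _ _ hV hW)⁻¹ ∉ Rstd hi h2 := by
  have h4 : (4 : F) ≠ 0 := by
    have := mul_ne_zero h2 h2; norm_num at this; exact this
  have hV : (![1, 1, 1, 1, 0, 0] : Fin 6 → F) ⬝ᵥ ![1, 1, 1, 1, 0, 0] = 4 := by
    simp [dotProduct, Fin.sum_univ_six]; norm_num
  have hW : (![0, 0, 0, 0, 0, 2] : Fin 6 → F) ⬝ᵥ ![0, 0, 0, 0, 0, 2] = 4 := by
    simp [dotProduct, Fin.sum_univ_six]; norm_num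
  refine ⟨by rw [hV]; exact h4, by rw [hW]; exact h4, fun hmem => ?_⟩
  obtain ⟨u, hu⟩ : ∃ u, rfc (![1, 1, 1, 1, 0, 0] : Fin 6 → F) (rfc ![0, 0, 0, 0, 0, 2] (Pi.single 0 1)) = u :=
    ⟨_, rfl⟩
  obtain ⟨u', hu'⟩ : ∃ u, rfc (![1, 1, 1, 1, 0, 0] : Fin 6 → F) (rfc ![0, 0, 0, 0, 0, 2] (Pi.single 1 1)) = u :=
    ⟨_, rfl⟩
  have hue : u = ![1/2, -(1/2), -(1/2), -(1/2), 0, 0] := by
    rw [← hu]; funext x
    fin_cases x <;> simp [rfc, hV, hW] <;> field_simp <;> norm_num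
  have hue' : u' = ![-(1/2), 1/2, -(1/2), -(1/2), 0, 0] := by
    rw [← hu']; funext x
    fin_cases x <;> simp [rfc, hV, hW] <;> field_simp <;> norm_num
  have hu1 : u ⬝ᵥ u = 1 := by
    rw [hue]; simp [dotProduct, Fin.sum_univ_six]; field_simp; norm_num
  have hu1' : u' ⬝ᵥ u' = 1 := by
    rw [hue']; simp [dotProduct, Fin.sum_univ_six]; field_simp; norm_num
  rw [conj_pr hi h2 _ _ (by rw [hu1]; exact one_ne_zero) (by rw [hu1']; exact one_ne_zero)
    ((pr_sandwich hi h2 _ _ (hV.trans hW.symm) _).trans (by rw [hu]))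
    ((pr_sandwich hi h2 _ _ (hV.trans hW.symm) _).trans (by rw [hu']))] at hmem
  obtain ⟨M, hM⟩ : ∃ M : M₄, ((pr hi h2 u u' (by rw [hu1]; exact one_ne_zero)
    (by rw [hu1']; exact one_ne_zero) : G₄) : M₄) = M := ⟨_, rfl⟩
  have hM' := hM
  rw [pr_val, hu1', inv_one] at hM'
  have m00 : M 0 0 = i / 2 := by
    rw [← hM', hue, hue']
    simp [Xv, plc, altEmb, Matrix.vecMul, dotProduct, Fin.sum_univ_four]
    field_simp
    linear_combination (-1 : F) * hi
  have m02 : M 0 2 = 1 / 2 := by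
    rw [← hM', hue, hue']
    simp [Xv, plc, altEmb, Matrix.vecMul, dotProduct, Fin.sum_univ_four]
    field_simp
    ring
  have hi0 := i_ne hi
  rcases comm_or_anti_three hi h2 hmem with e | e
  · have e' := congrArg (fun m : G₄ => (m : M₄) 0 2) e
    simp only [Units.val_mul, hM, b3] at e'
    simp [Matrix.mul_apply, Fin.sum_univ_four, Matrix.vecMul, dotProduct, m02] at e'
    field_simp at e'
    exact h2 (by linear_combination -e')
  · have e' := congrArg (fun m : G₄ => (m : M₄) 0 0) e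
    simp only [Units.val_neg, Units.val_mul, Matrix.neg_apply, hM, b3] at e'
    simp [Matrix.mul_apply, Fin.sum_univ_four, Matrix.vecMul, dotProduct, m00] at e'
    field_simp at e'
    exact h2 (by linear_combination e')

end Cfsg.Agent.Lib.SLExtraFour
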